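import Mathlib
import Cfsg.Agent.Lib.Helper3.SzB0

set_option autoImplicit false
set_option linter.style.haveILetI false
set_option linter.unusedSectionVars false

/-! # S0347 part B, leaf B3a: elements of even order are conjugate into `Q`. -/

namespace Cfsg.Agent.Lib.Helper3.Sz

open Cfsg MulAction
open Cfsg.Agent.Lib.Helper97.Zass
open Cfsg.Agent.Lib.Helper3.ZassOdd
open Cfsg.Agent.Lib.Helper3.ZassFeit
open scoped ComplexConjugate

variable {G Ω : Type*} [Group G] [MulAction G Ω] [Fintype Ω] {a b : Ω} {Q : Subgroup G} {q : ℕ}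
variable [Fintype G] [Fintype Q] [Fintype (twoStab G a b)] [IsSimpleGroup G]

/-- an element fixing `a` whose order is even lies in `Q`. -/
theorem h92_mem_of_fix_of_even (c : Ctx G a b Q q) {g : G} (hg : Even (orderOf g))
    (hga : g • a = a) : g ∈ Q := by
  by_contra hgQ
  rw [c.ker.mem_iff c.hy] at hgQ
  push Not at hgQ
  obtain ⟨-, d, hgd, hda⟩ := hgQ hga
  have hmem : g ∈ twoStab G a d := mem_twoStab.mpr ⟨hga, hgd⟩
  have hodd := c.hodd' (Ne.symm hda)
  have hdvd : orderOf g ∣ Nat.card (twoStab G a d) := by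
    have h1 : orderOf (⟨g, hmem⟩ : twoStab G a d) = orderOf g := by
      rw [← Subgroup.orderOf_coe]
    rw [← h1]
    exact orderOf_dvd_natCard _
  exact (Nat.not_even_iff_odd.mpr (hodd.of_dvd_nat hdvd)) hg

/-- B3a. every element of even order is conjugate into `Q`. -/
theorem exists_conj_mem_of_even (c : Ctx G a b Q q) {g : G} (hg : Even (orderOf g)) :
    ∃ x : G, x * g * x⁻¹ ∈ Q := by
  obtain ⟨m, hm⟩ := hg
  have hpos : 0 < orderOf g := orderOf_pos g
  have hm0 : 0 < m := by omega
  -- the involution `t = g ^ m`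
  have ht1 : g ^ m ≠ 1 := by
    intro h
    have := orderOf_dvd_of_pow_eq_one h
    have := Nat.le_of_dvd hm0 this
    omega
  have ht2 : g ^ m * g ^ m = 1 := by
    rw [← pow_add, ← hm, pow_orderOf_eq_one]
  obtain ⟨p, hp, hpu⟩ := c.exists_unique_fix ht1 ht2
  -- `g` fixes `p`
  have hgp : g • p = p := by
    apply hpu
    show g ^ m • g • p = g • p
    rw [← mul_smul, ← pow_succ, pow_succ', mul_smul, hp]
  -- move `p` to `a`
  obtain ⟨w, hw⟩ : ∃ w : G, w • p = a := by
    by_cases hpa : p = a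
    · exact ⟨1, by rw [one_smul, hpa]⟩
    · obtain ⟨w, hw, -⟩ := c.hy.h2 hpa (Ne.symm hpa)
      exact ⟨w, hw⟩
  refine ⟨w, h92_mem_of_fix_of_even c ?_ ?_⟩
  · have : orderOf (w * g * w⁻¹) = orderOf g := by
      have := orderOf_injective (MulAut.conj w).toMonoidHom (MulAut.conj w).injective g
      simpa [MulAut.conj_apply] using this
    rw [this, hm]
    exact ⟨m, rfl⟩
  · rw [mul_smul, mul_smul, ← hw, inv_smul_smul, hgp]

end Cfsg.Agent.Lib.Helper3.Sz
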