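import Mathlib
import Cfsg.Agent.Lib.Helper3.SzB0

set_option autoImplicit false
set_option linter.style.haveILetI false
set_option linter.unusedSectionVars false

/-! # S0347 part B, leaf B3b: sums of class functions over the conjugates of a TI subgroup. -/

namespace Cfsg.Agent.Lib.Helper3.Sz

open Cfsg MulAction
open Cfsg.Agent.Lib.Helper97.Zass
open Cfsg.Agent.Lib.Helper3.ZassOdd
open Cfsg.Agent.Lib.Helper3.ZassFeit
open scoped ComplexConjugate

/-- the conjugates of the nonidentity elements of a TI subgroup `K` are parametrised by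
`G ⧸ N(K) × (K ∖ 1)`. -/
theorem h92_conj_bij {G : Type*} [Group G] (K : Subgroup G)
    (hTI : Cfsg.IsTISubset (K : Set G)) :
    ∃ e : (G ⧸ Subgroup.normalizer (K : Set G)) × {k : K // k ≠ 1} ≃
        {g : G // g ≠ 1 ∧ ∃ x : G, x * g * x⁻¹ ∈ K},
      ∀ t, ∃ y : G, ((e t : {g : G // g ≠ 1 ∧ ∃ x : G, x * g * x⁻¹ ∈ K}) : G) =
        y * ((t.2.1 : K) : G) * y⁻¹ := by
  classical
  have hmem : ∀ t : (G ⧸ Subgroup.normalizer (K : Set G)) × {k : K // k ≠ 1},
      t.1.out * (t.2.1 : G) * t.1.out⁻¹ ≠ 1 ∧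
        ∃ x : G, x * (t.1.out * (t.2.1 : G) * t.1.out⁻¹) * x⁻¹ ∈ K := by
    intro t
    refine ⟨?_, t.1.out⁻¹, ?_⟩
    · intro h
      have h2 : (t.2.1 : G) = 1 := by
        have := congrArg (fun z => t.1.out⁻¹ * z * t.1.out) h
        simpa [mul_assoc] using this
      exact t.2.2 (Subtype.ext h2)
    · simp only [inv_inv, mul_assoc, inv_mul_cancel_left, inv_mul_cancel, mul_one]
      exact t.2.1.2
  let f : (G ⧸ Subgroup.normalizer (K : Set G)) × {k : K // k ≠ 1} →
      {g : G // g ≠ 1 ∧ ∃ x : G, x * g * x⁻¹ ∈ K} := fun t => ⟨_, hmem t⟩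
  have hinj : Function.Injective f := by
    intro t t' h
    have h1 : t.1.out * (t.2.1 : G) * t.1.out⁻¹ = t'.1.out * (t'.2.1 : G) * t'.1.out⁻¹ :=
      congrArg Subtype.val h
    have h2 : (t'.1.out⁻¹ * t.1.out) * (t.2.1 : G) * (t'.1.out⁻¹ * t.1.out)⁻¹ = (t'.2.1 : G) := by
      have := congrArg (fun z => t'.1.out⁻¹ * z * t'.1.out) h1
      simp only [mul_assoc, inv_mul_cancel_left, inv_mul_cancel, mul_one] at this
      simp only [mul_inv_rev, inv_inv, mul_assoc]
      exact this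
    have h3 : t'.1.out⁻¹ * t.1.out ∈ Subgroup.normalizer (K : Set G) := by
      by_contra hn
      have := hTI _ hn (t.2.1 : G) t.2.1.2 (by rw [h2]; exact t'.2.1.2)
      exact t.2.2 (Subtype.ext this)
    have h4 : t'.1 = t.1 := by
      rw [← QuotientGroup.out_eq' t'.1, ← QuotientGroup.out_eq' t.1]
      exact QuotientGroup.eq.mpr h3
    have h5 : (t.2.1 : G) = (t'.2.1 : G) := by
      rw [h4] at h1
      have := congrArg (fun z => t.1.out⁻¹ * z * t.1.out) h1
      simpa [mul_assoc] using this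
    exact Prod.ext h4.symm (Subtype.ext (Subtype.ext h5))
  have hsurj : Function.Surjective f := by
    rintro ⟨g, hg1, x, hx⟩
    set q : G ⧸ Subgroup.normalizer (K : Set G) :=
      ((x⁻¹ : G) : G ⧸ Subgroup.normalizer (K : Set G)) with hq
    have hn : x * q.out ∈ Subgroup.normalizer (K : Set G) := by
      have : ((x⁻¹ : G) : G ⧸ Subgroup.normalizer (K : Set G)) = ((q.out : G) : G ⧸ _) := by
        rw [QuotientGroup.out_eq']
      have := QuotientGroup.eq.mp this
      simpa using this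
    have hk : q.out⁻¹ * g * q.out ∈ K := by
      have := (Subgroup.mem_set_normalizer_iff''.mp hn (x * g * x⁻¹)).mp hx
      simpa [mul_assoc] using this
    have hk1 : (⟨q.out⁻¹ * g * q.out, hk⟩ : K) ≠ 1 := by
      intro h
      have h' : q.out⁻¹ * g * q.out = 1 := congrArg Subtype.val h
      apply hg1
      have := congrArg (fun z => q.out * z * q.out⁻¹) h'
      simpa [mul_assoc] using this
    refine ⟨(q, ⟨⟨_, hk⟩, hk1⟩), ?_⟩
    apply Subtype.ext
    show q.out * (q.out⁻¹ * g * q.out) * q.out⁻¹ = g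
    simp [mul_assoc]
  exact ⟨Equiv.ofBijective f ⟨hinj, hsurj⟩, fun t => ⟨t.1.out, rfl⟩⟩

/-- sums of a class function over the nonidentity elements conjugate into a TI subgroup. -/
theorem h92_sum_conjSet {G : Type*} [Group G] [Fintype G] (K : Subgroup G) [Fintype K]
    (hTI : Cfsg.IsTISubset (K : Set G)) {f : G → ℂ} (hf : IsClassFunction G f) :
    ∑ g : G, (open Classical in if g ≠ 1 ∧ ∃ x : G, x * g * x⁻¹ ∈ K then f g else 0) =
      ((Subgroup.normalizer (K : Set G)).index : ℂ) *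
        ∑ u : K, (open Classical in if u ≠ 1 then f u else 0) := by
  classical
  obtain ⟨e, he⟩ := h92_conj_bij K hTI
  haveI : Fintype (G ⧸ Subgroup.normalizer (K : Set G)) := Fintype.ofFinite _
  have h1 : ∑ g : G, (if g ≠ 1 ∧ ∃ x : G, x * g * x⁻¹ ∈ K then f g else 0) =
      ∑ s : {g : G // g ≠ 1 ∧ ∃ x : G, x * g * x⁻¹ ∈ K}, f s := by
    rw [← Finset.sum_filter]
    exact Finset.sum_subtype _ (p := fun g : G => g ≠ 1 ∧ ∃ x : G, x * g * x⁻¹ ∈ K) (by simp) f
  have h2 : ∑ u : K, (if u ≠ 1 then f u else 0) = ∑ k : {k : K // k ≠ 1}, f ((k : K) : G) := by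
    rw [← Finset.sum_filter]
    exact Finset.sum_subtype _ (p := fun k : K => k ≠ 1) (by simp) (fun k : K => f (k : G))
  have h3 : ∑ s : {g : G // g ≠ 1 ∧ ∃ x : G, x * g * x⁻¹ ∈ K}, f s =
      ∑ t : (G ⧸ Subgroup.normalizer (K : Set G)) × {k : K // k ≠ 1}, f ((t.2.1 : K) : G) := by
    rw [← Equiv.sum_comp e]
    apply Finset.sum_congr rfl
    intro t _
    obtain ⟨y, hy⟩ := he t
    rw [hy, hf]
  have h4 : ∑ t : (G ⧸ Subgroup.normalizer (K : Set G)) × {k : K // k ≠ 1},
      f ((t.2.1 : K) : G) =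
      ((Subgroup.normalizer (K : Set G)).index : ℂ) * ∑ k : {k : K // k ≠ 1}, f ((k : K) : G) := by
    rw [Fintype.sum_prod_type]
    simp only [Finset.sum_const, Finset.card_univ, nsmul_eq_mul]
    congr 2
    rw [Subgroup.index, Nat.card_eq_fintype_card]
  have key : ∑ g : G, (if g ≠ 1 ∧ ∃ x : G, x * g * x⁻¹ ∈ K then f g else 0) =
      ((Subgroup.normalizer (K : Set G)).index : ℂ) *
        ∑ u : K, (if u ≠ 1 then f u else 0) := by
    rw [h1, h3, h4, h2]
  convert key

variable {G Ω : Type*} [Group G] [MulAction G Ω] [Fintype Ω] {a b : Ω} {Q : Subgroup G} {q : ℕ}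
variable [Fintype G] [Fintype Q] [Fintype (twoStab G a b)] [IsSimpleGroup G]

/-- the index of the normaliser of `Q` is `|Ω|`. -/
theorem h92_index_normalizer (c : Ctx G a b Q q) :
    (Subgroup.normalizer (Q : Set G)).index = Fintype.card Ω := by
  have hy := c.hy
  have hpt : MulAction.IsPretransitive G Ω := by
    refine ⟨fun c d => ?_⟩
    by_cases hcd : c = d
    · exact ⟨1, by rw [one_smul, hcd]⟩
    · obtain ⟨c', hc'⟩ := exists_ne hy c
      obtain ⟨d', hd'⟩ := exists_ne hy d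
      obtain ⟨g', hg'c, -⟩ := hy.h2 (Ne.symm hc') (Ne.symm hd')
      exact ⟨g', hg'c⟩
  rw [c.ker.normalizer_eq hy, MulAction.index_stabilizer_of_transitive,
    Nat.card_eq_fintype_card]

/-- B3b. sums over the conjugates of `Q ∖ 1`. -/
theorem sum_conj (c : Ctx G a b Q q) {f : G → ℂ} (hf : IsClassFunction G f) :
    ∑ g : G, (open Classical in if g ≠ 1 ∧ ∃ x : G, x * g * x⁻¹ ∈ Q then f g else 0) =
      (Fintype.card Ω : ℂ) * ∑ u : Q, (open Classical in if u ≠ 1 then f u else 0) := by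
  rw [h92_sum_conjSet Q (c.ker.tiSubset c.hy) hf, h92_index_normalizer c]

end Cfsg.Agent.Lib.Helper3.Sz
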