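import Mathlib
import Cfsg.Agent.Lib.Helper3.SzB0
import Cfsg.Agent.Lib.Helper3.CharBasic
import Cfsg.Agent.Lib.Helper81.OneIrr
import Cfsg.Agent.Lib.Helper92.SzBB3a
import Cfsg.Agent.Lib.Helper92.SzBB3b

set_option autoImplicit false
set_option linter.style.haveILetI false
set_option linter.unusedSectionVars false

/-! # S0347 part B, leaf B3c: the Frobenius–Schur sum of a nonprincipal irreducible character. -/

namespace Cfsg.Agent.Lib.Helper3.Sz

open Cfsg MulAction
open Cfsg.Agent.Lib.Helper97.Zass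
open Cfsg.Agent.Lib.Helper3.ZassOdd
open Cfsg.Agent.Lib.Helper3.ZassFeit
open scoped ComplexConjugate

/-- squaring permutes the elements of odd order: sums over them are unchanged. -/
theorem h92_sum_sq_odd {G : Type*} [Group G] [Fintype G] (ψ : G → ℂ) :
    ∑ g : G, (open Classical in if Odd (orderOf g) then ψ (g * g) else 0) =
      ∑ g : G, (open Classical in if Odd (orderOf g) then ψ g else 0) := by
  classical
  -- `|G| = 2 ^ s * m` with `m` odd
  obtain ⟨s, m, hm, hcard⟩ := Nat.exists_eq_two_pow_mul_odd (Fintype.card_ne_zero (α := G))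
  obtain ⟨k, hk⟩ := hm
  have hpow : ∀ g : G, Odd (orderOf g) → g ^ m = 1 := by
    intro g hg
    apply orderOf_dvd_iff_pow_eq_one.mp
    have h1 : orderOf g ∣ 2 ^ s * m := by
      rw [← hcard]; exact orderOf_dvd_card
    have h2 : Nat.Coprime (orderOf g) (2 ^ s) :=
      Nat.Coprime.pow_right s hg.coprime_two_right
    exact h2.dvd_of_dvd_mul_left h1
  have hoddpow : ∀ (g : G) (j : ℕ), Odd (orderOf g) → Odd (orderOf (g ^ j)) := fun g j hg =>
    hg.of_dvd_nat (orderOf_pow_dvd j)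
  rw [← Finset.sum_filter, ← Finset.sum_filter]
  refine Finset.sum_nbij' (fun g => g * g) (fun g => g ^ (k + 1)) ?_ ?_ ?_ ?_ ?_
  · intro g hg
    rw [Finset.mem_filter] at hg ⊢
    refine ⟨Finset.mem_univ _, ?_⟩
    rw [← pow_two]
    exact hoddpow g 2 hg.2
  · intro g hg
    rw [Finset.mem_filter] at hg ⊢
    exact ⟨Finset.mem_univ _, hoddpow g _ hg.2⟩
  · intro g hg
    rw [Finset.mem_filter] at hg
    show (g * g) ^ (k + 1) = g
    rw [← pow_two, ← pow_mul]
    have : 2 * (k + 1) = m + 1 := by omega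
    rw [this, pow_succ, hpow g hg.2, one_mul]
  · intro g hg
    rw [Finset.mem_filter] at hg
    show g ^ (k + 1) * g ^ (k + 1) = g
    rw [← pow_add]
    have : k + 1 + (k + 1) = m + 1 := by omega
    rw [this, pow_succ, hpow g hg.2, one_mul]
  · intro g _
    rfl

variable {G Ω : Type*} [Group G] [MulAction G Ω] [Fintype Ω] {a b : Ω} {Q : Subgroup G} {q : ℕ}
variable [Fintype G] [Fintype Q] [Fintype (twoStab G a b)] [IsSimpleGroup G]

/-- the elements of odd order are those not conjugate into `Q ∖ 1`. -/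
theorem h92_odd_iff (c : Ctx G a b Q q) (g : G) :
    Odd (orderOf g) ↔ ¬ (g ≠ 1 ∧ ∃ x : G, x * g * x⁻¹ ∈ Q) := by
  constructor
  · rintro hodd ⟨hg1, x, hx⟩
    have hord : orderOf (x * g * x⁻¹) = orderOf g := by
      have := orderOf_injective (MulAut.conj x).toMonoidHom (MulAut.conj x).injective g
      simpa [MulAut.conj_apply] using this
    have hx1 : x * g * x⁻¹ ≠ 1 := by
      intro h
      apply hg1
      have := congrArg (fun v => x⁻¹ * v * x) h
      simpa [mul_assoc] using this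
    obtain ⟨j, hj⟩ := c.two ⟨x * g * x⁻¹, hx⟩
    have hj' : (x * g * x⁻¹) ^ 2 ^ j = 1 := by
      have := congrArg Subtype.val hj
      simpa using this
    have hdvd := orderOf_dvd_of_pow_eq_one hj'
    obtain ⟨i, -, hi⟩ := (Nat.dvd_prime_pow Nat.prime_two).mp hdvd
    rw [hord] at hi
    rcases Nat.eq_zero_or_pos i with h0 | h0
    · rw [h0, pow_zero, orderOf_eq_one_iff] at hi
      exact hg1 hi
    · rw [hi] at hodd
      exact (Nat.not_even_iff_odd.mpr hodd) ((Nat.even_pow' h0.ne').mpr even_two)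
  · intro h
    by_contra hodd
    rw [Nat.not_odd_iff_even] at hodd
    apply h
    refine ⟨?_, exists_conj_mem_of_even c hodd⟩
    rintro rfl
    rw [orderOf_one] at hodd
    exact absurd hodd (by decide)

/-- B3c. -/
theorem fs_formula (c : Ctx G a b Q q) {ψ : G → ℂ} (hψ : IsIrrCharacter G ψ)
    (h1 : ψ ≠ fun _ => 1) :
    fsSum ψ = (Fintype.card Ω : ℂ) * ∑ u : Q, (ψ ((u : G) * u) - ψ u) := by
  classical
  have hcf : IsClassFunction G ψ :=
    Cfsg.Agent.Lib.Helper3.IsCharacter.isClassFunction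
      (Cfsg.Agent.Lib.Helper3.IsIrrCharacter.isCharacter hψ)
  have hF : IsClassFunction G (fun g => ψ (g * g) - ψ g) := by
    intro g h
    show ψ (h * g * h⁻¹ * (h * g * h⁻¹)) - ψ (h * g * h⁻¹) = ψ (g * g) - ψ g
    have e : h * g * h⁻¹ * (h * g * h⁻¹) = h * (g * g) * h⁻¹ := by group
    rw [e, hcf, hcf]
  have hzero : ∑ g : G, ψ g = 0 :=
    Cfsg.Agent.Lib.Helper81.irr_sum_eq_zero_of_ne_one ⟨ψ, hψ⟩ h1
  have hsplit : ∀ φ : G → ℂ, ∑ g : G, φ g =
      ∑ g : G, (if g ≠ 1 ∧ ∃ x : G, x * g * x⁻¹ ∈ Q then φ g else 0) +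
        ∑ g : G, (if Odd (orderOf g) then φ g else 0) := by
    intro φ
    rw [← Finset.sum_add_distrib]
    apply Finset.sum_congr rfl
    intro g _
    by_cases hg : g ≠ 1 ∧ ∃ x : G, x * g * x⁻¹ ∈ Q
    · rw [if_pos hg, if_neg (fun ho => (h92_odd_iff c g).mp ho hg), add_zero]
    · rw [if_neg hg, if_pos ((h92_odd_iff c g).mpr hg), zero_add]
  have hsq := h92_sum_sq_odd ψ
  have e1 := hsplit (fun g => ψ (g * g))
  have e2 := hsplit ψ
  rw [hzero] at e2
  have hsq' : ∑ g : G, (if Odd (orderOf g) then ψ (g * g) else 0) =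
      ∑ g : G, (if Odd (orderOf g) then ψ g else 0) := by
    convert hsq
  have e3 : fsSum ψ = ∑ g : G, (if g ≠ 1 ∧ ∃ x : G, x * g * x⁻¹ ∈ Q then
      (fun g => ψ (g * g) - ψ g) g else 0) := by
    rw [fsSum, e1, hsq']
    have : ∑ g : G, (if g ≠ 1 ∧ ∃ x : G, x * g * x⁻¹ ∈ Q then
        (fun g => ψ (g * g) - ψ g) g else 0) =
        ∑ g : G, (if g ≠ 1 ∧ ∃ x : G, x * g * x⁻¹ ∈ Q then ψ (g * g) else 0) -
          ∑ g : G, (if g ≠ 1 ∧ ∃ x : G, x * g * x⁻¹ ∈ Q then ψ g else 0) := by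
      rw [← Finset.sum_sub_distrib]
      apply Finset.sum_congr rfl
      intro g _
      by_cases hg : g ≠ 1 ∧ ∃ x : G, x * g * x⁻¹ ∈ Q
      · rw [if_pos hg, if_pos hg, if_pos hg]
      · rw [if_neg hg, if_neg hg, if_neg hg, sub_zero]
    rw [this]
    linear_combination (-1 : ℂ) * e2
  have e4 := sum_conj c hF
  have e5 : ∑ u : Q, (if u ≠ 1 then (fun g => ψ (g * g) - ψ g) (u : G) else 0) =
      ∑ u : Q, (ψ ((u : G) * u) - ψ u) := by
    apply Finset.sum_congr rfl
    intro u _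
    by_cases hu : u ≠ 1
    · rw [if_pos hu]
    · rw [if_neg hu]
      push Not at hu
      rw [hu]
      simp
  rw [e3, ← e5]
  convert e4

end Cfsg.Agent.Lib.Helper3.Sz
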