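import Mathlib
import Cfsg.Agent.Lib.Helper3.SzB0
import Cfsg.Agent.Lib.Helper15.StrReal
import Cfsg.Agent.Lib.Helper80.SzBB2

set_option autoImplicit false
set_option linter.style.haveILetI false
set_option linter.unusedSectionVars false

/-! # S0347 part B, leaf B3d: the Frobenius–Schur sum of a character induced from a linear
character of `Q`. -/

namespace Cfsg.Agent.Lib.Helper3.Sz

open Cfsg MulAction
open Cfsg.Agent.Lib.Helper97.Zass
open Cfsg.Agent.Lib.Helper3.ZassOdd
open Cfsg.Agent.Lib.Helper3.ZassFeit
open scoped ComplexConjugate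

variable {G Ω : Type*} [Group G] [MulAction G Ω] [Fintype Ω] {a b : Ω} {Q : Subgroup G} {q : ℕ}
variable [Fintype G] [Fintype Q] [Fintype (twoStab G a b)] [IsSimpleGroup G]

/-- `g * g ∈ Q` iff `g * g = 1` or `g ∈ Q`. -/
theorem h92_sq_mem_iff (c : Ctx G a b Q q) (g : G) : g * g ∈ Q ↔ g * g = 1 ∨ g ∈ Q := by
  constructor
  · intro h
    by_cases h1 : g * g = 1
    · exact Or.inl h1
    · right
      apply c.ker.cent_le c.hy (g * g) h h1
      rw [Subgroup.mem_centralizer_singleton_iff]
      group
  · rintro (h | h)
    · rw [h]; exact Q.one_mem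
    · exact Q.mul_mem h h

/-- the number of `g` with `g * g ∈ Q` is `|Q| q`. -/
theorem h92_card_sq_mem (c : Ctx G a b Q q) :
    (open Classical in (Finset.univ.filter (fun g : G => g * g ∈ Q)).card) = Nat.card Q * q := by
  classical
  have hS : Finset.univ.filter (fun g : G => g * g ∈ Q) =
      insert 1 (invs G) ∪ (Finset.univ.filter (fun g : G => g ∈ Q ∧ g * g ≠ 1)) := by
    ext g
    simp only [Finset.mem_filter, Finset.mem_univ, true_and, Finset.mem_union, Finset.mem_insert,
      mem_invs, h92_sq_mem_iff c g]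
    constructor
    · rintro (h | h)
      · by_cases h1 : g = 1
        · exact Or.inl (Or.inl h1)
        · exact Or.inl (Or.inr ⟨h1, h⟩)
      · by_cases h1 : g * g = 1
        · by_cases h2 : g = 1
          · exact Or.inl (Or.inl h2)
          · exact Or.inl (Or.inr ⟨h2, h1⟩)
        · exact Or.inr ⟨h, h1⟩
    · rintro ((h | h) | h)
      · left; rw [h, mul_one]
      · exact Or.inl h.2
      · exact Or.inr h.1
  have hdisj : Disjoint (insert 1 (invs G))
      (Finset.univ.filter (fun g : G => g ∈ Q ∧ g * g ≠ 1)) := by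
    rw [Finset.disjoint_left]
    intro g hg hg'
    rw [Finset.mem_filter] at hg'
    rw [Finset.mem_insert, mem_invs] at hg
    rcases hg with h | h
    · exact hg'.2.2 (by rw [h, mul_one])
    · exact hg'.2.2 h.2
  have hA : (insert 1 (invs G)).card = Fintype.card Ω * Nat.card (twoStab G a b) + 1 := by
    rw [Finset.card_insert_of_notMem (by rw [mem_invs]; exact fun h => h.1 rfl),
      ((card_invs c.zass c.hab c.hodd).2 c.odd_card).1]
  -- the elements of `Q` that are not involutions or `1`
  have hB : (Finset.univ.filter (fun g : G => g ∈ Q ∧ g * g ≠ 1)).card + q = Nat.card Q := by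
    have h1 : (Finset.univ.filter (fun g : G => g ∈ Q ∧ g * g ≠ 1)).card =
        (Finset.univ.filter (fun u : Q => ¬ (u * u = 1))).card := by
      symm
      apply Finset.card_bij (fun (u : Q) _ => (u : G))
      · intro u hu
        rw [Finset.mem_filter] at hu ⊢
        refine ⟨Finset.mem_univ _, u.2, ?_⟩
        intro h
        exact hu.2 (Subtype.ext h)
      · intro u _ v _ h
        exact Subtype.ext h
      · intro g hg
        rw [Finset.mem_filter] at hg
        refine ⟨⟨g, hg.2.1⟩, ?_, rfl⟩
        rw [Finset.mem_filter]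
        refine ⟨Finset.mem_univ _, ?_⟩
        intro h
        exact hg.2.2 (congrArg Subtype.val h)
    have h2 : (Finset.univ.filter (fun u : Q => u * u = 1)).card = q := by
      rw [← c.card_center, Nat.card_eq_fintype_card, ← Fintype.card_subtype]
      apply Fintype.card_congr
      apply Equiv.subtypeEquivRight
      intro u
      exact b2_inv c u
    have h3 := Finset.card_filter_add_card_filter_not (s := (Finset.univ : Finset Q))
      (fun u : Q => u * u = 1)
    rw [Finset.card_univ, ← Nat.card_eq_fintype_card] at h3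
    omega
  have hcard : (Finset.univ.filter (fun g : G => g * g ∈ Q)).card = Nat.card Q * q := by
    rw [hS, Finset.card_union_of_disjoint hdisj, hA]
    have h1 := c.hq
    have h2 := c.card_Q
    have h3 : Fintype.card Ω * Nat.card (twoStab G a b) + Nat.card (twoStab G a b) =
        (Nat.card Q + 1) * (Nat.card (twoStab G a b) + 1) - (Nat.card Q + 1) +
          Nat.card (twoStab G a b) := by
      rw [← h2]
      have : (Nat.card Q + 1) * (Nat.card (twoStab G a b) + 1) =
        (Nat.card Q + 1) * Nat.card (twoStab G a b) + (Nat.card Q + 1) := by ring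
      omega
    have h4 : Nat.card Q * q = Nat.card Q * (Nat.card (twoStab G a b)) + Nat.card Q := by
      rw [← h1]; ring
    have h5 : Fintype.card Ω * Nat.card (twoStab G a b) =
        Nat.card Q * Nat.card (twoStab G a b) + Nat.card (twoStab G a b) := by
      rw [← h2]; ring
    omega
  convert hcard

/-- B3d. -/
theorem fs_ind (c : Ctx G a b Q q) {θ : Q → ℂ} (hθ : IsIrrCharacter Q θ) (hdeg : θ 1 = 1) :
    fsSum (indFun Q θ) = (Nat.card G : ℂ) * q := by
  classical
  have hval : ∀ g : G, extendByZero Q θ (g * g) = if g * g ∈ Q then 1 else 0 := by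
    intro g
    by_cases h : g * g ∈ Q
    · rw [if_pos h, Cfsg.Agent.Lib.Helper25.extendByZero_of_mem Q θ h]
      rcases (h92_sq_mem_iff c g).mp h with h1 | h1
      · have : (⟨g * g, h⟩ : Q) = 1 := Subtype.ext h1
        rw [this, hdeg]
      · have : (⟨g * g, h⟩ : Q) = ⟨g, h1⟩ * ⟨g, h1⟩ := rfl
        rw [this, linear_sq c hθ hdeg]
    · rw [if_neg h, Cfsg.Agent.Lib.Helper25.extendByZero_of_not_mem Q θ h]
  have hsum : ∑ g : G, extendByZero Q θ (g * g) = (Nat.card Q : ℂ) * q := by
    simp_rw [hval]
    rw [Finset.sum_ite, Finset.sum_const_zero, add_zero, Finset.sum_const, nsmul_eq_mul, mul_one]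
    have := h92_card_sq_mem c
    have h2 : (Finset.univ.filter (fun g : G => g * g ∈ Q)).card = Nat.card Q * q := by
      convert this
    rw [h2]
    push_cast
    ring
  rw [fsSum, Cfsg.Agent.Lib.Helper15.StrReal.fs_indFun, hsum]
  have hQ : (Nat.card Q : ℂ) ≠ 0 := by
    have : 0 < Nat.card Q := Nat.card_pos
    exact_mod_cast this.ne'
  field_simp

end Cfsg.Agent.Lib.Helper3.Sz
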