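import Mathlib

/-! # S0347 leaf SUN (helper92): the sunflower lemma for integer vectors -/

set_option autoImplicit false

namespace Cfsg.Agent.Lib.Helper3.Sz

open Matrix

variable {ι J : Type*} [Fintype ι] [Fintype J] [DecidableEq J]

theorem sun_expand (y : J → ℤ) (a b a' b' : J) :
    (y + Pi.single a 1 - Pi.single b 1) ⬝ᵥ (y + Pi.single a' 1 - Pi.single b' 1) =
      y ⬝ᵥ y + (y a' - y b') + (y a - y b) +
        ((if a' = a then 1 else 0) - (if b' = a then 1 else 0) - (if a' = b then 1 else 0)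
          + (if b' = b then 1 else 0)) := by
  simp [add_dotProduct, sub_dotProduct, dotProduct_add, dotProduct_sub, single_dotProduct,
    dotProduct_single, Pi.single_apply]
  ring

/-- two nonnegative integer vectors of the same norm `n + 1` and inner product `n` differ by an
exchange -/
theorem sun_diff {n : ℤ} (x y : J → ℤ) (hx : ∀ j, 0 ≤ x j) (hy : ∀ j, 0 ≤ y j)
    (hxx : x ⬝ᵥ x = n + 1) (hyy : y ⬝ᵥ y = n + 1) (hxy : x ⬝ᵥ y = n) :
    ∃ a b : J, a ≠ b ∧ x = y + Pi.single a 1 - Pi.single b 1 := by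
  set d : J → ℤ := x - y with hd
  have hyx : y ⬝ᵥ x = n := by rw [dotProduct_comm, hxy]
  have hdd : d ⬝ᵥ d = 2 := by
    simp only [hd, sub_dotProduct, dotProduct_sub]
    rw [hxx, hyy, hxy, hyx]
    ring
  have hdx : d ⬝ᵥ x = 1 := by
    simp only [hd, sub_dotProduct]
    rw [hxx, hyx]
    ring
  have hdy : d ⬝ᵥ y = -1 := by
    simp only [hd, sub_dotProduct]
    rw [hxy, hyy]
    ring
  obtain ⟨a, ha⟩ : ∃ a, 0 < d a := by
    by_contra hcon
    simp only [not_exists, not_lt] at hcon
    have : d ⬝ᵥ x ≤ 0 :=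
      Finset.sum_nonpos (fun j _ => mul_nonpos_of_nonpos_of_nonneg (hcon j) (hx j))
    linarith
  obtain ⟨b, hb⟩ : ∃ b, d b < 0 := by
    by_contra hcon
    simp only [not_exists, not_lt] at hcon
    have : 0 ≤ d ⬝ᵥ y := Finset.sum_nonneg (fun j _ => mul_nonneg (hcon j) (hy j))
    linarith
  have hab : a ≠ b := by
    rintro rfl
    linarith
  have hsum : d ⬝ᵥ d =
      d a * d a + (d b * d b + ∑ j ∈ (Finset.univ.erase a).erase b, d j * d j) := by
    unfold dotProduct
    rw [← Finset.add_sum_erase Finset.univ _ (Finset.mem_univ a),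
      ← Finset.add_sum_erase (Finset.univ.erase a) _
        (Finset.mem_erase.mpr ⟨hab.symm, Finset.mem_univ b⟩)]
  have hrest_nonneg : 0 ≤ ∑ j ∈ (Finset.univ.erase a).erase b, d j * d j :=
    Finset.sum_nonneg (fun j _ => mul_self_nonneg _)
  have ha1 : 1 ≤ d a := ha
  have hb1 : d b ≤ -1 := by omega
  have haa : 1 ≤ d a * d a := by nlinarith
  have hbb : 1 ≤ d b * d b := by nlinarith
  have hrest0 : ∑ j ∈ (Finset.univ.erase a).erase b, d j * d j = 0 := by linarith
  have haeq : d a = 1 := by nlinarith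
  have hbeq : d b = -1 := by nlinarith
  have hzero : ∀ j, j ≠ a → j ≠ b → d j = 0 := by
    intro j hja hjb
    have hmem : j ∈ (Finset.univ.erase a).erase b := by simp [hja, hjb]
    have := (Finset.sum_eq_zero_iff_of_nonneg (fun j _ => mul_self_nonneg (d j))).mp hrest0 j hmem
    exact mul_self_eq_zero.mp this
  refine ⟨a, b, hab, ?_⟩
  funext j
  have hdj : x j = y j + d j := by simp [hd]
  by_cases hja : j = a
  · subst hja
    simp [hdj, haeq, hab]
  · by_cases hjb : j = b
    · subst hjb
      simp [hdj, hbeq, hja]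
      ring
    · simp [hdj, hzero j hja hjb, hja, hjb]

/-- the common analysis of sunflowers (`ε = 1`) and co-sunflowers (`ε = -1`) -/
theorem sun_core {m : ℕ} (hN : m + 3 ≤ Fintype.card ι) (C : ι → J → ℤ)
    (hnorm : ∀ i, C i ⬝ᵥ C i = m + 1) (hinner : ∀ i i', i ≠ i' → C i ⬝ᵥ C i' = m)
    (ε : ℤ) (hε : ε * ε = 1) (W : J → ℤ) (Z : ι → J)
    (hC : ∀ i, C i = W + ε • Pi.single (Z i) 1) :
    Function.Injective Z ∧ (∀ i, W (Z i) = 0) ∧ W ⬝ᵥ W = m := by
  have hinj : Function.Injective Z := by
    intro i k hik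
    by_contra hne
    have h1 := hinner i k hne
    have h2 := hnorm i
    rw [hC k, ← hik, ← hC i] at h1
    linarith
  have hnorm' : ∀ i, W ⬝ᵥ W + 2 * (ε * W (Z i)) = m := by
    intro i
    have h := hnorm i
    rw [hC i] at h
    simp only [add_dotProduct, dotProduct_add, smul_dotProduct, dotProduct_smul, single_dotProduct,
      dotProduct_single, smul_eq_mul, mul_one, one_mul, Pi.add_apply, Pi.smul_apply,
      Pi.single_eq_same] at h
    nlinarith
  have hne : Nonempty ι := by
    apply Fintype.card_pos_iff.mp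
    omega
  obtain ⟨i0⟩ := hne
  set w := W (Z i0) with hwdef
  have hw : ∀ i, W (Z i) = w := by
    intro i
    have h1 := hnorm' i
    have h2 := hnorm' i0
    have h3 : ε * W (Z i) = ε * w := by linarith
    have h4 : ε * (ε * W (Z i)) = ε * (ε * w) := by rw [h3]
    rw [← mul_assoc, ← mul_assoc, hε, one_mul, one_mul] at h4
    exact h4
  have hsum : (Fintype.card ι : ℤ) * (w * w) ≤ W ⬝ᵥ W := by
    calc (Fintype.card ι : ℤ) * (w * w) = ∑ i : ι, W (Z i) * W (Z i) := by
          simp [hw, Finset.sum_const, Finset.card_univ]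
      _ = ∑ j ∈ Finset.univ.image Z, W j * W j := by
          rw [Finset.sum_image (fun _ _ _ _ h => hinj h)]
      _ ≤ ∑ j, W j * W j :=
          Finset.sum_le_univ_sum_of_nonneg (fun j => mul_self_nonneg _)
  have hw0 : w = 0 := by
    by_contra hw0
    have hw1 : 1 ≤ w * w := by
      have : 0 < w * w := mul_self_pos.mpr hw0
      omega
    set t := ε * w with ht
    have htt : t * t = w * w := by
      have : t * t = (ε * ε) * (w * w) := by rw [ht]; ring
      rw [this, hε, one_mul]
    have hD := hnorm' i0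
    rw [← hwdef, ← ht] at hD
    have hNZ : (m : ℤ) + 3 ≤ (Fintype.card ι : ℤ) := by exact_mod_cast hN
    have h1 : 0 ≤ ((Fintype.card ι : ℤ) - m - 3) * (t * t) :=
      mul_nonneg (by linarith) (mul_self_nonneg t)
    have h2 : 0 ≤ (m : ℤ) * (t * t - 1) := mul_nonneg (by positivity) (by linarith)
    have h3 : 0 ≤ (t + 1) * (t + 1) := mul_self_nonneg _
    rw [← htt] at hsum hw1
    nlinarith
  refine ⟨hinj, fun i => (hw i).trans hw0, ?_⟩
  have hD := hnorm' i0
  rw [← hwdef, hw0] at hD
  linarith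

/-- S0347-SUN (sunflower lemma for integer vectors). -/
theorem sunflower {ι J : Type*} [Fintype ι] [Fintype J] [DecidableEq J] {m : ℕ}
    (hN : m + 3 ≤ Fintype.card ι) (c : ι → J → ℕ)
    (hnorm : ∀ i, ∑ j, c i j ^ 2 = m + 1)
    (hinner : ∀ i i', i ≠ i' → ∑ j, c i j * c i' j = m) :
    ∃ (X : ι → J) (Δ : J → ℕ), Function.Injective X ∧ (∀ i, Δ (X i) = 0) ∧
      (∀ i j, c i j = Δ j + if j = X i then 1 else 0) ∧ ∑ j, Δ j ^ 2 = m := by
  classical
  set C : ι → J → ℤ := fun i j => (c i j : ℤ) with hCdef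
  have hC0 : ∀ i j, 0 ≤ C i j := fun i j => Int.natCast_nonneg _
  have hnormZ : ∀ i, C i ⬝ᵥ C i = m + 1 := by
    intro i
    have h2 : ((∑ j, c i j ^ 2 : ℕ) : ℤ) = ((m + 1 : ℕ) : ℤ) := by rw [hnorm i]
    push_cast at h2
    rw [← h2]
    simp only [dotProduct, hCdef, sq]
  have hinnerZ : ∀ i i', i ≠ i' → C i ⬝ᵥ C i' = m := by
    intro i i' hii'
    have h2 : ((∑ j, c i j * c i' j : ℕ) : ℤ) = ((m : ℕ) : ℤ) := by rw [hinner i i' hii']
    push_cast at h2
    rw [← h2]
    simp only [dotProduct, hCdef]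
  have hcard : 1 < Fintype.card ι := by omega
  obtain ⟨i0, i1, h01⟩ := Fintype.exists_pair_of_one_lt_card hcard
  have h10 : i1 ≠ i0 := h01.symm
  obtain ⟨a0, b0, hab0, h10eq⟩ := sun_diff (C i1) (C i0) (hC0 i1) (hC0 i0) (hnormZ i1) (hnormZ i0)
    (hinnerZ i1 i0 h10)
  have hdiff : ∀ i, ∃ a b : J, i ≠ i0 → (a ≠ b ∧ C i = C i0 + Pi.single a 1 - Pi.single b 1) := by
    intro i
    by_cases h : i = i0
    · exact ⟨a0, b0, fun h' => absurd h h'⟩
    · obtain ⟨a, b, hab, hi⟩ := sun_diff (C i) (C i0) (hC0 i) (hC0 i0) (hnormZ i) (hnormZ i0)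
        (hinnerZ i i0 h)
      exact ⟨a, b, fun _ => ⟨hab, hi⟩⟩
  choose A B hAB using hdiff
  -- the exchange decreases the first coordinate by one
  have hstep : ∀ i, i ≠ i0 → C i0 (A i) - C i0 (B i) = -1 := by
    intro i hi
    have h := hnormZ i
    rw [(hAB i hi).2, sun_expand, hnormZ i0] at h
    have hne := (hAB i hi).1
    have hne' : B i ≠ A i := fun e => hne e.symm
    simp [hne, hne'] at h
    linarith
  have pair : ∀ i k, i ≠ i0 → k ≠ i0 → i ≠ k →
      (A i = A k ∧ B i ≠ B k) ∨ (A i ≠ A k ∧ B i = B k) := by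
    intro i k hi hk hik
    have h := hinnerZ i k hik
    rw [(hAB i hi).2, (hAB k hk).2, sun_expand, hnormZ i0] at h
    have h1 := hstep i hi
    have h2 := hstep k hk
    have hnei := (hAB i hi).1
    have hnek := (hAB k hk).1
    by_cases e1 : A k = A i
    · by_cases e2 : B k = B i
      · exfalso
        have : C i = C k := by rw [(hAB i hi).2, (hAB k hk).2, e1, e2]
        have h3 := hnormZ i
        have h4 := hinnerZ i k hik
        rw [← this] at h4
        linarith
      · left
        exact ⟨e1.symm, fun e => e2 e.symm⟩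
    · by_cases e2 : B k = B i
      · right
        exact ⟨fun e => e1 e.symm, e2.symm⟩
      · exfalso
        have hq : (0 : ℤ) ≤ (if B k = A i then 1 else 0) := by split_ifs <;> norm_num
        have hr : (0 : ℤ) ≤ (if A k = B i then 1 else 0) := by split_ifs <;> norm_num
        rw [if_neg e1, if_neg e2] at h
        linarith
  by_cases hA : ∃ i2, i2 ≠ i0 ∧ i2 ≠ i1 ∧ A i2 = A i1
  · -- the co-sunflower case is contradictory
    exfalso
    obtain ⟨i2, h20, h21, hA2⟩ := hA
    have hB2 : B i2 ≠ B i1 := by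
      rcases pair i2 i1 h20 h10 h21 with ⟨_, h⟩ | ⟨h, _⟩
      · exact h
      · exact absurd hA2 h
    have hallA : ∀ i, i ≠ i0 → A i = A i1 := by
      intro i hi0
      by_cases hi1 : i = i1
      · rw [hi1]
      by_cases hi2 : i = i2
      · rw [hi2, hA2]
      rcases pair i i1 hi0 h10 hi1 with ⟨h, _⟩ | ⟨hne, hBeq⟩
      · exact h
      · rcases pair i i2 hi0 h20 hi2 with ⟨h, _⟩ | ⟨_, hBeq2⟩
        · exact absurd (h.trans hA2) hne
        · exact absurd (hBeq2.symm.trans hBeq) hB2
    have core := sun_core hN C hnormZ hinnerZ (-1) (by norm_num) (C i0 + Pi.single (A i1) 1)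
      (fun i => if i = i0 then A i1 else B i) (by
        intro i
        by_cases hi : i = i0
        · subst hi
          simp
        · rw [(hAB i hi).2, hallA i hi]
          simp only [if_neg hi]
          funext j
          simp only [Pi.add_apply, Pi.sub_apply, Pi.smul_apply, smul_eq_mul]
          ring)
    obtain ⟨_, hW0, _⟩ := core
    have h0 := hW0 i0
    simp at h0
    have := hC0 i0 (A i1)
    linarith
  · -- the sunflower case
    simp only [not_exists, not_and] at hA
    have hallB : ∀ i, i ≠ i0 → B i = B i1 := by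
      intro i hi0
      by_cases hi1 : i = i1
      · rw [hi1]
      rcases pair i i1 hi0 h10 hi1 with ⟨h, _⟩ | ⟨_, h⟩
      · exact absurd h (hA i hi0 hi1)
      · exact h
    set W : J → ℤ := C i0 - Pi.single (B i1) 1 with hWdef
    set X : ι → J := fun i => if i = i0 then B i1 else A i with hXdef
    have hCW : ∀ i, C i = W + (1 : ℤ) • Pi.single (X i) 1 := by
      intro i
      by_cases hi : i = i0
      · subst hi
        simp [hWdef, hXdef]
      · rw [(hAB i hi).2, hallB i hi]
        simp only [hXdef, if_neg hi, hWdef]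
        funext j
        simp only [Pi.add_apply, Pi.sub_apply, Pi.smul_apply, smul_eq_mul]
        ring
    obtain ⟨hinj, hW0, hWW⟩ := sun_core hN C hnormZ hinnerZ 1 (by norm_num) W X hCW
    have hWnn : ∀ j, 0 ≤ W j := by
      intro j
      by_cases hj : j = B i1
      · have h := hW0 i0
        simp only [hXdef, if_pos rfl] at h
        rw [hj, h]
      · simp only [hWdef, Pi.sub_apply, Pi.single_apply, if_neg hj, sub_zero]
        exact hC0 i0 j
    have hcast : ∀ j, ((W j).toNat : ℤ) = W j := fun j => Int.toNat_of_nonneg (hWnn j)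
    refine ⟨X, fun j => (W j).toNat, hinj, ?_, ?_, ?_⟩
    · intro i
      show (W (X i)).toNat = 0
      rw [hW0 i]
      rfl
    · intro i j
      have h := congrFun (hCW i) j
      simp only [Pi.add_apply, Pi.smul_apply, smul_eq_mul, one_mul, Pi.single_apply] at h
      have h' : ((c i j : ℕ) : ℤ) = (((W j).toNat + if j = X i then 1 else 0 : ℕ) : ℤ) := by
        push_cast
        rw [hcast j]
        exact h
      exact_mod_cast h'
    · have h' : ((∑ j, (W j).toNat ^ 2 : ℕ) : ℤ) = (m : ℤ) := by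
        push_cast
        rw [← hWW]
        simp only [dotProduct, hcast, sq]
      exact_mod_cast h'

end Cfsg.Agent.Lib.Helper3.Sz
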