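import Cfsg.Agent.Lib.Helper92.RUL1

/-! # S2522 leaf L2 (helper92): transvections are products of two conjugates of `Jmat` -/

set_option autoImplicit false

namespace Cfsg.Agent.Lib.Helper65.RU

open Matrix Module

variable {K : Type*} [Field K]

/-- the elementary matrix with a single `1` in the top right corner -/
def l2E (n : ℕ) : Matrix (Fin n) (Fin n) K :=
  fun i j => if i.val = 0 ∧ j.val + 1 = n then 1 else 0

/-- the explicit matrix `J⁻¹ * (1 + E)` -/
def l2B (n : ℕ) : Matrix (Fin n) (Fin n) K :=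
  fun i j => (if i ≤ j then (-1) ^ (j.val - i.val) else 0) + l2E n i j

theorem l2B_isRegUpper {n : ℕ} (hn : 3 ≤ n) : IsRegUpper (l2B n : Matrix (Fin n) (Fin n) K) := by
  refine ⟨?_, ?_, ?_⟩
  · intro i j hji
    have h1 : ¬ i ≤ j := not_le.mpr hji
    have h2 : ¬ (i.val = 0 ∧ j.val + 1 = n) := by
      have : j.val < i.val := hji
      omega
    simp [l2B, l2E, h1, h2]
  · intro i
    have h2 : ¬ (i.val = 0 ∧ i.val + 1 = n) := by omega
    simp [l2B, l2E, h2]
  · intro i j hij
    have h1 : i ≤ j := by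
      have : i.val ≤ j.val := by omega
      exact this
    have h2 : ¬ (i.val = 0 ∧ j.val + 1 = n) := by omega
    have h3 : j.val - i.val = 1 := by omega
    simp [l2B, l2E, h1, h2, h3]

theorem l2_jmat_mul_apply {n : ℕ} (B : Matrix (Fin n) (Fin n) K) (i j : Fin n) :
    ((Jmat n : Matrix (Fin n) (Fin n) K) * B) i j =
      B i j + (if h : i.val + 1 < n then B ⟨i.val + 1, h⟩ j else 0) := by
  rw [Matrix.mul_apply]
  have h1 : ∀ k : Fin n, (Jmat n : Matrix (Fin n) (Fin n) K) i k * B k j =
      (if i = k then B k j else 0) + (if k.val = i.val + 1 then B k j else 0) := by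
    intro k
    rw [l1_jmat_apply]
    by_cases hik : i = k
    · subst hik
      simp
    · by_cases hk : k.val = i.val + 1
      · simp [hik, hk]
      · simp [hik, hk]
  rw [Finset.sum_congr rfl (fun k _ => h1 k), Finset.sum_add_distrib]
  congr 1
  · simp
  · by_cases h : i.val + 1 < n
    · rw [dif_pos h, Finset.sum_eq_single (⟨i.val + 1, h⟩ : Fin n)]
      · simp
      · intro k _ hk
        have : ¬ (k.val = i.val + 1) := fun e => hk (Fin.ext e)
        rw [if_neg this]
      · intro h'; exact absurd (Finset.mem_univ _) h'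
    · rw [dif_neg h]
      apply Finset.sum_eq_zero
      intro k _
      have : ¬ (k.val = i.val + 1) := by have := k.isLt; omega
      rw [if_neg this]

theorem l2_jmat_mul_B {n : ℕ} :
    (Jmat n : Matrix (Fin n) (Fin n) K) * l2B n = 1 + l2E n := by
  ext i j
  rw [l2_jmat_mul_apply, Matrix.add_apply, Matrix.one_apply]
  have hi := i.isLt
  have hj := j.isLt
  by_cases h : i.val + 1 < n
  · rw [dif_pos h]
    have hE : (l2E n : Matrix (Fin n) (Fin n) K) ⟨i.val + 1, h⟩ j = 0 := by
      simp [l2E]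
    simp only [l2B, hE, add_zero]
    rcases lt_trichotomy i.val j.val with hlt | heq | hgt
    · have h1 : i ≤ j := le_of_lt (show i < j from hlt)
      have h2 : (⟨i.val + 1, h⟩ : Fin n) ≤ j := by
        show i.val + 1 ≤ j.val
        omega
      have h3 : i ≠ j := fun e => by rw [e] at hlt; exact lt_irrefl _ hlt
      have h4 : j.val - i.val = (j.val - (i.val + 1)) + 1 := by omega
      rw [if_pos h1, if_pos h2, if_neg h3, h4, pow_succ]
      ring
    · have h1 : i = j := Fin.ext heq
      subst h1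
      have h2 : ¬ ((⟨i.val + 1, h⟩ : Fin n) ≤ i) := by
        show ¬ (i.val + 1 ≤ i.val)
        omega
      simp [h2]
    · have h1 : ¬ i ≤ j := not_le.mpr (show j < i from hgt)
      have h2 : ¬ ((⟨i.val + 1, h⟩ : Fin n) ≤ j) := by
        show ¬ (i.val + 1 ≤ j.val)
        omega
      have h3 : i ≠ j := fun e => by rw [e] at hgt; exact lt_irrefl _ hgt
      rw [if_neg h1, if_neg h2, if_neg h3]
      ring
  · rw [dif_neg h]
    have hin : i.val + 1 = n := by omega
    simp only [l2B, add_zero]
    by_cases hij : i = j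
    · subst hij
      simp
    · have h1 : ¬ i ≤ j := by
        intro hle
        have : i.val ≤ j.val := hle
        have : i.val ≠ j.val := fun e => hij (Fin.ext e)
        omega
      rw [if_neg h1, if_neg hij]

/-- a rank one matrix is an outer product -/
theorem l2_rank_one {n : ℕ} (M : Matrix (Fin n) (Fin n) K) (hrk : M.rank = 1) :
    ∃ u c : Fin n → K, u ≠ 0 ∧ c ≠ 0 ∧ M = vecMulVec u c := by
  have h1 : finrank K (LinearMap.range M.mulVecLin) = 1 := hrk
  obtain ⟨⟨u, hu⟩, hune, hall⟩ := finrank_eq_one_iff'.mp h1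
  have hc : ∀ j : Fin n, ∃ c : K, c • u = M *ᵥ Pi.single j 1 := by
    intro j
    obtain ⟨c, hc⟩ := hall ⟨M *ᵥ Pi.single j 1, ⟨Pi.single j 1, rfl⟩⟩
    exact ⟨c, congrArg Subtype.val hc⟩
  choose c hc using hc
  have hM : M = vecMulVec u c := by
    ext i j
    have := congrFun (hc j) i
    rw [Matrix.mulVec_single_one] at this
    simp only [Pi.smul_apply, smul_eq_mul, Matrix.col_apply] at this
    rw [vecMulVec_apply, ← this, mul_comm]
  refine ⟨u, c, ?_, ?_, hM⟩
  · intro e
    apply hune
    exact Subtype.ext e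
  · intro e
    rw [hM, e] at hrk
    simp at hrk

theorem l2_exists_perm {α : Type*} [DecidableEq α] {a b p q : α} (hab : a ≠ b) (hpq : p ≠ q) :
    ∃ σ : Equiv.Perm α, σ a = p ∧ σ b = q := by
  have h1 : Equiv.swap a p b ≠ p := by
    intro e
    have : Equiv.swap a p b = Equiv.swap a p a := by rw [e, Equiv.swap_apply_left]
    exact hab (Equiv.injective _ this).symm
  refine ⟨Equiv.swap (Equiv.swap a p b) q * Equiv.swap a p, ?_, ?_⟩
  · rw [Equiv.Perm.mul_apply, Equiv.swap_apply_left]
    exact Equiv.swap_apply_of_ne_of_ne (Ne.symm h1) hpq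
  · rw [Equiv.Perm.mul_apply, Equiv.swap_apply_left]

/-- a basis adapted to a vector `u` and a functional `c` vanishing on it -/
theorem l2_exists_basis {n : ℕ} (hn : 3 ≤ n) (u c : Fin n → K) (hu : u ≠ 0) (hc : c ≠ 0)
    (huc : c ⬝ᵥ u = 0) :
    ∃ b : Basis (Fin n) K (Fin n → K), b ⟨0, by omega⟩ = u ∧
      ∀ k : Fin n, c ⬝ᵥ b k = if k.val + 1 = n then 1 else 0 := by
  have hf0 : dualOf c u = 0 := huc
  have hf : dualOf c ≠ 0 := by
    intro e
    apply hc
    funext j
    have := congrArg (fun φ : Module.Dual K (Fin n → K) => φ (Pi.single j 1)) e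
    simpa using this
  obtain ⟨S, b, i, j, hij, hbi, hbj⟩ := exists_basis_of_pairing_eq_zero hf0 hf hu
  let _ : Fintype S := FiniteDimensional.fintypeBasisIndex b
  have hcard : Fintype.card S = n := by
    rw [← finrank_eq_card_basis b, Module.finrank_fin_fun]
  let e0 : S ≃ Fin n := Fintype.equivFinOfCardEq hcard
  have h0l : (⟨0, by omega⟩ : Fin n) ≠ ⟨n - 1, by omega⟩ := by
    intro e
    have := congrArg Fin.val e
    simp at this
    omega
  obtain ⟨σ, hσ1, hσ2⟩ := l2_exists_perm (a := e0 i) (b := e0 j) (fun e => hij (e0.injective e)) h0l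
  let e : S ≃ Fin n := e0.trans σ
  have hei : e i = ⟨0, by omega⟩ := hσ1
  have hej : e j = ⟨n - 1, by omega⟩ := hσ2
  refine ⟨b.reindex e, ?_, ?_⟩
  · rw [Basis.reindex_apply, ← hei, Equiv.symm_apply_apply, ← hbi]
  · intro k
    classical
    have h1 : c ⬝ᵥ (b.reindex e) k = dualOf c ((b.reindex e) k) := rfl
    rw [h1, hbj, Basis.reindex_apply, Basis.coord_apply, Basis.repr_self, Finsupp.single_apply]
    by_cases hk : k.val + 1 = n
    · have hkj : k = e j := by
        rw [hej]
        exact Fin.ext (by simp; omega)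
      have : e.symm k = j := by rw [hkj, Equiv.symm_apply_apply]
      rw [if_pos hk, if_pos this]
    · have : e.symm k ≠ j := by
        intro e'
        rw [← e', Equiv.apply_symm_apply] at hej
        apply hk
        rw [hej]
        simp; omega
      rw [if_neg hk, if_neg this]

/-- L2: transvections are products of two conjugates of `J`. -/
theorem transvection_case {n : ℕ} (hn : 3 ≤ n) (J g : GL (Fin n) K) (hJ : J.val = Jmat n)
    (hrk : (g.val - 1).rank = 1) (hdet : g.val.det = 1) :
    ∃ x y : GL (Fin n) K, g = (x * J * x⁻¹) * (y * J * y⁻¹) := by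
  obtain ⟨u, c, hu, hc, hM⟩ := l2_rank_one _ hrk
  have hg : g.val = 1 + vecMulVec u c := by
    rw [← hM]; abel
  have huc : c ⬝ᵥ u = 0 := by
    have h := hdet
    rw [hg, vecMulVec_eq Unit, det_one_add_replicateCol_mul_replicateRow] at h
    linear_combination h
  obtain ⟨b, hb0, hbk⟩ := l2_exists_basis hn u c hu hc huc
  set Q : Matrix (Fin n) (Fin n) K := (Pi.basisFun K (Fin n)).toMatrix b with hQdef
  set Q' : Matrix (Fin n) (Fin n) K := b.toMatrix (Pi.basisFun K (Fin n)) with hQ'def
  have hQQ' : Q * Q' = 1 := Basis.toMatrix_mul_toMatrix_flip _ _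
  have hQ'Q : Q' * Q = 1 := Basis.toMatrix_mul_toMatrix_flip _ _
  have hQapp : ∀ r k, Q r k = b k r := by
    intro r k
    simp [hQdef, Basis.toMatrix_apply]
  have hVQ : vecMulVec u c * Q = Q * l2E n := by
    ext r k
    rw [Matrix.mul_apply, Matrix.mul_apply]
    have h1 : ∑ l, vecMulVec u c r l * Q l k = u r * (c ⬝ᵥ b k) := by
      simp only [vecMulVec_apply, hQapp, dotProduct, Finset.mul_sum, mul_assoc]
    rw [h1, hbk]
    by_cases hk : k.val + 1 = n
    · rw [if_pos hk, Finset.sum_eq_single (⟨0, by omega⟩ : Fin n)]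
      · simp [l2E, hk, hQapp, hb0]
      · intro l _ hl
        have : ¬ (l.val = 0 ∧ k.val + 1 = n) := by
          rintro ⟨h0, -⟩
          exact hl (Fin.ext h0)
        simp [l2E, this]
      · intro h'; exact absurd (Finset.mem_univ _) h'
    · rw [if_neg hk, mul_zero]
      symm
      apply Finset.sum_eq_zero
      intro l _
      have : ¬ (l.val = 0 ∧ k.val + 1 = n) := fun h => hk h.2
      simp [l2E, this]
  have hgQ : g.val * Q = Q * (1 + l2E n) := by
    rw [hg, Matrix.add_mul, Matrix.one_mul, hVQ, Matrix.mul_add, Matrix.mul_one]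
  obtain ⟨y, hy⟩ := conj_Jmat_of_isRegUpper _ (l2B_isRegUpper (K := K) hn)
  let x : GL (Fin n) K := ⟨Q, Q', hQQ', hQ'Q⟩
  refine ⟨x, x * y, ?_⟩
  have key : g = x * (J * (y * J * y⁻¹)) * x⁻¹ := by
    apply Units.ext
    simp only [Units.val_mul]
    show g.val = Q * (J.val * (y.val * J.val * (y⁻¹ : GL (Fin n) K).val)) * Q'
    rw [hJ, ← hy, l2_jmat_mul_B, ← hgQ, Matrix.mul_assoc, hQQ', Matrix.mul_one]
  rw [key]
  group

end Cfsg.Agent.Lib.Helper65.RU
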