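set_option autoImplicit false

/-! Data for the `2`-blocks of `M24`: two elements of order three, groups of order eight
centralising them, a group of order `27` with conjugating elements, and coset representatives. -/

namespace Cfsg.Agent.Lib.Helper92.Blk24Data

def xaCode : Nat := 886929711944160005978619293296855072

def xbCode : Nat := 348255849912391892525855587328720961

def wAA : Nat := 968708902336673183175954409307867168

def wBB : Nat := 426075608234743835702121411116467264

def daList : List Nat := [674400724356722388060304946289052673, 682189481605113623998517178055888897, 688679688032225678021679517420037121, 693871779392905460048389483333453825, 965346966670364367458681901213092896, 973135206459819183275216022251278368, 979625635716138325955160962816418848, 984818244535754528103549039458486304]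

def dbList : List Nat := [89708512868318564056909773564206600, 136927896138767551210743511688924749, 634152487256333310787834211789820357, 723112880106652870151623237602792777, 797977989002040661229888048470658404, 831568229302499846901083801479855510, 878334482361354361941156391270040806, 984818244535754528103549039458486304]

def tA : List (Nat × Nat) := [(886929711944160005978619293296855072, 984818244535754528103549039458486304), (341050705022823791076430286248052768, 968708902336673183175954409307867168), (554908487590796135944740705916789824, 272086159650820638278683915305671936), (631457551061546098996043112704484416, 941880140443213241337978934339356160), (610643225975029919648498137163736128, 469402842808395339950999466894473696), (506553955596732991621718870069445920, 317517681432283803781812616721126656), (319753677286914558111273180740027680, 421376747219580490469142595155047904), (430175415807304494108064434752685344, 318242949247699588517441577930506784), (978326293876408961817848874736420899, 390891885495974309043456014268531728), (354032874087310798638435618280048675, 347453769042751207580322596172399621), (898598465392383989610399967157028899, 548424407291161250168842472313750551), (979614577379258849441890429454780452, 183421692757402243575932755315786769), (897302065805899790814179450906740772, 881724926508434379310666906121896965), (339758942666788142451473161355528228, 553557123870491367881787806374855688)]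

def tB : List (Nat × Nat) := [(608049356015438540316769261312943171, 237801527512186878208155990051828416), (645718010089347887591293021600228419, 321036973893689261108289369626676576), (561400870375951151589305514041943107, 902787261504900100281133168492318816), (311950261704329755700975257916671267, 403951541293076353779196660088343680), (524730901448580864932028700436858147, 653793983734980038592798212386499680), (437960857391406848116138368378733859, 775244856990721253288313548322167168), (648335642456806773319471190529549380, 519646411342763618248532757834698080), (588569565478081640681134019044189252, 642111445786768354752637793763135584), (563980981041692198137621168924927044, 348254854568249977888504577845697728), (422369317269591490124769872925689124, 762403719663897445521940496228882656), (522138335160249338972008815367554340, 937470386187224080190333016035363968), (315852320610319672293222219982570788, 891104683942373261553770095273127008)]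

def rList : List Nat := [3, 15, 17, 19, 20, 21, 23]

def badTable : List (Nat × Nat) := [(4, 606878088282132807516061865243445280), (5, 841658653057051758626114669394429984), (6, 933741629014089305055980201765439520), (7, 212384170485423119264187936855525408), (8, 510374129267426648620711464921204768), (9, 596514748614158125713951787657234464), (10, 680978707563248217292676809924872224), (11, 353500430152311800818875787000514592), (12, 146102738326212511774967108820404256), (13, 970048674810705520494696404827408416), (14, 445998153683788159718372052681820192), (16, 512885509873280411848582209465747488), (18, 964608013903808065800711357523888160), (22, 216418955805853691654685438606247968)]


end Cfsg.Agent.Lib.Helper92.Blk24Data
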