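import Cfsg.Agent.Lib.Helper93.DefZero

set_option autoImplicit false

/-! A group of order `244823040` with two classes of elements of order three, each centralised by a
group of order eight, with small centralisers and a suitable group of order `27`, has no
irreducible character of `2`-defect zero. -/

namespace Cfsg.Agent.Lib.Helper92.Blk24Gen

open Cfsg Cfsg.Agent.Lib.Helper93.DefZero
open scoped ComplexConjugate

theorem fact_two_244823040 : (244823040 : ℕ).factorization 2 = 10 := by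
  have h : (244823040 : ℕ) = 2 ^ 10 * 239085 := by norm_num
  rw [h, Nat.factorization_mul (by norm_num) (by norm_num),
    Nat.Prime.factorization_pow (by norm_num)]
  simp
  rw [Nat.factorization_eq_zero_of_not_dvd (by norm_num)]

/-- the bound from the first orthogonality relation, two classes -/
theorem class_bound2 {G : Type*} [Group G] [Fintype G] (χ : IrrCharacter G) (x y : G)
    (hx : x ≠ 1) (hy : y ≠ 1) (hxy : ¬ IsConj x y) :
    Complex.normSq ((χ : G → ℂ) 1) +
      ((Subgroup.centralizer ({x} : Set G)).index : ℝ) * Complex.normSq ((χ : G → ℂ) x) +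
      ((Subgroup.centralizer ({y} : Set G)).index : ℝ) * Complex.normSq ((χ : G → ℂ) y) ≤
      (Nat.card G : ℝ) := by
  classical
  have h1 := Cfsg.Agent.Lib.Helper3.classInner_irr χ.2 χ.2
  rw [if_pos rfl] at h1
  unfold classInner at h1
  have hc : (Nat.card G : ℂ) ≠ 0 := by exact_mod_cast Nat.card_pos.ne'
  have h2 : ∑ g : G, (χ : G → ℂ) g * conj ((χ : G → ℂ) g) = (Nat.card G : ℂ) := by
    field_simp at h1
    exact h1
  have h3 : ∑ g : G, Complex.normSq ((χ : G → ℂ) g) = (Nat.card G : ℝ) := by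
    have : ((∑ g : G, Complex.normSq ((χ : G → ℂ) g) : ℝ) : ℂ) = ((Nat.card G : ℝ) : ℂ) := by
      push_cast
      rw [← h2]
      apply Finset.sum_congr rfl
      intro g _
      rw [Complex.mul_conj]
    exact_mod_cast this
  set K : Finset G := Finset.univ.filter (fun g : G => IsConj g x) with hK
  set L : Finset G := Finset.univ.filter (fun g : G => IsConj g y) with hL
  have hcl := Cfsg.Agent.Lib.Helper3.IsCharacter.isClassFunction
    (Cfsg.Agent.Lib.Helper3.IsIrrCharacter.isCharacter χ.2)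
  have hKL : Disjoint K L := by
    rw [Finset.disjoint_left]
    intro g hg1 hg2
    rw [hK, Finset.mem_filter] at hg1
    rw [hL, Finset.mem_filter] at hg2
    exact hxy (hg1.2.symm.trans hg2.2)
  have h1K : (1 : G) ∉ K ∪ L := by
    rw [Finset.mem_union, hK, hL, Finset.mem_filter, Finset.mem_filter]
    rintro (⟨_, h⟩ | ⟨_, h⟩)
    · rw [isConj_one_right] at h
      exact hx h
    · rw [isConj_one_right] at h
      exact hy h
  have hsub : insert (1 : G) (K ∪ L) ⊆ Finset.univ := Finset.subset_univ _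
  have h4 : ∑ g ∈ insert (1 : G) (K ∪ L), Complex.normSq ((χ : G → ℂ) g) ≤
      ∑ g : G, Complex.normSq ((χ : G → ℂ) g) :=
    Finset.sum_le_sum_of_subset_of_nonneg hsub (fun g _ _ => Complex.normSq_nonneg _)
  rw [Finset.sum_insert h1K, Finset.sum_union hKL, h3] at h4
  have h5 : ∑ g ∈ K, Complex.normSq ((χ : G → ℂ) g) =
      (K.card : ℝ) * Complex.normSq ((χ : G → ℂ) x) := by
    rw [Finset.sum_congr rfl (g := fun _ => Complex.normSq ((χ : G → ℂ) x))]
    · rw [Finset.sum_const, nsmul_eq_mul]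
    · intro g hg
      rw [hK, Finset.mem_filter] at hg
      rw [Cfsg.Agent.Lib.Helper3.IsClassFunction.eq_of_isConj hcl hg.2]
  have h6 : ∑ g ∈ L, Complex.normSq ((χ : G → ℂ) g) =
      (L.card : ℝ) * Complex.normSq ((χ : G → ℂ) y) := by
    rw [Finset.sum_congr rfl (g := fun _ => Complex.normSq ((χ : G → ℂ) y))]
    · rw [Finset.sum_const, nsmul_eq_mul]
    · intro g hg
      rw [hL, Finset.mem_filter] at hg
      rw [Cfsg.Agent.Lib.Helper3.IsClassFunction.eq_of_isConj hcl hg.2]
  rw [h5, h6, hK, hL, Cfsg.Agent.Lib.Helper3.card_filter_isConj,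
    Cfsg.Agent.Lib.Helper3.card_filter_isConj] at h4
  linarith

/-- the congruence from a subgroup `3 × D` with `D` of order eight -/
theorem cong24 {G : Type} [Group G] [Fintype G] {χ : G → ℂ} (hχc : IsCharacter G χ)
    (hvan : ∀ g : G, 2 ∣ orderOf g → χ g = 0) (x : G) (hx3 : x ^ 3 = 1)
    (hxx : IsConj (x ^ 2) x) (D : Subgroup G) (hD : Nat.card D = 8)
    (hDc : ∀ d ∈ D, Commute x d) :
    ∃ n : ℕ, χ 1 - χ x = (n : ℂ) * 24 := by
  classical
  have hcl := Cfsg.Agent.Lib.Helper3.IsCharacter.isClassFunction hχc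
  set μ1 : Multiplicative (ZMod 3) →* ℂˣ := cycHom 3 omegaU omegaU_pow with hμ1
  have hμ1ne : ∃ i, μ1 i ≠ 1 := ⟨Multiplicative.ofAdd 1, by
    rw [hμ1, cycHom_ofAdd_one 3 (by norm_num)]
    exact omegaU_ne⟩
  have hφc : ∀ (i : Multiplicative (ZMod 3)) (j : D),
      Commute (cycHom 3 x hx3 i) (D.subtype j) := by
    intro i j
    rw [cycHom_apply]
    exact (hDc j.1 j.2).pow_left _
  set φ : Multiplicative (ZMod 3) × D →* G :=
    (cycHom 3 x hx3).noncommCoprod D.subtype hφc with hφ
  obtain ⟨n, hn⟩ := char_sum_nat hχc φ (μ1.comp (MonoidHom.fst _ _))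
  have hval : ∀ k : ℕ, k < 3 → k ≠ 0 → χ (x ^ k) = χ x := by
    intro k hk hk0
    interval_cases k
    · exact absurd rfl hk0
    · rw [pow_one]
    · exact Cfsg.Agent.Lib.Helper3.IsClassFunction.eq_of_isConj hcl hxx
  have hV : ∑ p : Multiplicative (ZMod 3) × D,
      χ (φ p) * conj (((μ1.comp (MonoidHom.fst _ _)) p : ℂˣ) : ℂ) = χ 1 - χ x := by
    have := sum_prod_mul_conj (fun p => χ (φ p)) μ1 hμ1ne (χ x) (by
        intro i hi
        show χ (φ (i, 1)) = χ x
        rw [hφ, MonoidHom.noncommCoprod_apply, map_one, cycHom_apply, mul_one]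
        apply hval _ (ZMod.val_lt _)
        intro h
        rw [val_eq_zero_iff_eq_one] at h
        exact hi h) (by
        intro i j hj
        show χ (φ (i, j)) = 0
        apply hvan
        rw [hφ, MonoidHom.noncommCoprod_apply]
        set s : G := D.subtype j with hs
        set u := cycHom 3 x hx3 i with hu
        have hs1 : s ≠ 1 := by
          intro h
          apply hj
          apply Subtype.ext
          exact h
        have hs8 : s ^ 8 = 1 := by
          have h8 : j ^ 8 = 1 := by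
            rw [← hD]
            exact pow_card_eq_one'
          have := congrArg D.subtype h8
          rwa [map_pow, map_one] at this
        have hu3 : u ^ 3 = 1 := by
          rw [hu, ← map_pow]
          have : i ^ 3 = 1 := by
            apply Multiplicative.toAdd.injective
            rw [toAdd_pow, toAdd_one]
            have h3 : ((3 : ℕ) : ZMod 3) = 0 := ZMod.natCast_self 3
            rw [nsmul_eq_mul, h3, zero_mul]
          rw [this, map_one]
        have hus : Commute u s := hφc i j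
        have h3 : (u * s) ^ 3 = s ^ 3 := by
          rw [hus.mul_pow, hu3, one_mul]
        have hos : 2 ∣ orderOf s := by
          have hdvd : orderOf s ∣ 2 ^ 3 := orderOf_dvd_of_pow_eq_one hs8
          obtain ⟨m, _, hm⟩ := (Nat.dvd_prime_pow Nat.prime_two).1 hdvd
          have hm0 : m ≠ 0 := by
            intro h0
            rw [h0, pow_zero, orderOf_eq_one_iff] at hm
            exact hs1 hm
          rw [hm]
          exact dvd_pow_self 2 hm0
        have hcop : Nat.Coprime (orderOf s) 3 := by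
          have hdvd : orderOf s ∣ 2 ^ 3 := orderOf_dvd_of_pow_eq_one hs8
          exact Nat.Coprime.coprime_dvd_left hdvd (by norm_num)
        have hos3 : orderOf (s ^ 3) = orderOf s := hcop.orderOf_pow
        have := orderOf_pow_dvd (x := u * s) 3
        rw [h3, hos3] at this
        exact dvd_trans hos this)
    simp only [MonoidHom.coe_comp, MonoidHom.coe_fst, Function.comp_apply]
    rw [this]
    show χ (φ 1) - χ x = _
    rw [map_one]
  rw [hV] at hn
  have hc24 : Nat.card (Multiplicative (ZMod 3) × D) = 24 := by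
    rw [Nat.card_prod, card_mz, hD]
  rw [hc24] at hn
  exact ⟨n, by exact_mod_cast hn⟩


theorem arith_contra24 (d n1 n2 n3 : ℕ) (h1 : d ∣ 244823040) (h2 : 2 ^ 10 ∣ d)
    (h3 : (d : ℤ) * d + 113344 * (((d : ℤ) - 24 * n1) * ((d : ℤ) - 24 * n1)) +
      485760 * (((d : ℤ) - 24 * n2) * ((d : ℤ) - 24 * n2)) ≤ 244823040)
    (h4 : (d : ℤ) + 14 * ((d : ℤ) - 24 * n1) + 12 * ((d : ℤ) - 24 * n2) = 27 * n3) : False := by
  obtain ⟨k, rfl⟩ := h2
  have hee1 : 0 ≤ (((2 ^ 10 * k : ℕ) : ℤ) - 24 * n1) * (((2 ^ 10 * k : ℕ) : ℤ) - 24 * n1) :=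
    mul_self_nonneg _
  have hee2 : 0 ≤ (((2 ^ 10 * k : ℕ) : ℤ) - 24 * n2) * (((2 ^ 10 * k : ℕ) : ℤ) - 24 * n2) :=
    mul_self_nonneg _
  have hk15 : k ≤ 15 := by
    by_contra hlt
    have : (16 : ℤ) ≤ k := by
      have : 16 ≤ k := by omega
      exact_mod_cast this
    push_cast at h3 hee1 hee2
    nlinarith
  have hk0 : 1 ≤ k := by
    rcases Nat.eq_zero_or_pos k with h0 | h0
    · subst h0
      simp at h1
    · exact h0
  have hk0' : (1 : ℤ) ≤ k := by exact_mod_cast hk0
  have hkk : (1048576 : ℤ) ≤ 1024 * (k : ℤ) * (1024 * (k : ℤ)) := by nlinarith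
  push_cast at h3 h4 hee1 hee2
  obtain ⟨a, ha⟩ : ∃ a : ℤ, a = 1024 * (k : ℤ) - 24 * n1 := ⟨_, rfl⟩
  obtain ⟨b, hb⟩ : ∃ b : ℤ, b = 1024 * (k : ℤ) - 24 * n2 := ⟨_, rfl⟩
  rw [← ha, ← hb] at h3 h4
  rw [← ha] at hee1
  rw [← hb] at hee2
  have ha2 : a * a ≤ 2150 := by
    by_contra hc
    have : 2151 ≤ a * a := by omega
    linarith
  have hb2 : b * b ≤ 501 := by
    by_contra hc
    have : 502 ≤ b * b := by omega
    linarith
  have ha3l : -46 ≤ a := by
    by_contra hc
    have h47 : a ≤ -47 := by omega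
    have : 2209 ≤ a * a := by nlinarith only [h47]
    omega
  have ha3u : a ≤ 46 := by
    by_contra hc
    have h47 : 47 ≤ a := by omega
    have : 2209 ≤ a * a := by nlinarith only [h47]
    omega
  have hb3l : -22 ≤ b := by
    by_contra hc
    have h23 : b ≤ -23 := by omega
    have : 529 ≤ b * b := by nlinarith only [h23]
    omega
  have hb3u : b ≤ 22 := by
    by_contra hc
    have h23 : 23 ≤ b := by omega
    have : 529 ≤ b * b := by nlinarith only [h23]
    omega
  have hkcases : k = 1 ∨ k = 3 ∨ k = 5 ∨ k = 7 ∨ k = 9 ∨ k = 11 ∨ k = 15 := by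
    clear h3 h4 hee1 hee2 ha hb ha2 hb2 hkk hk0' ha3l ha3u hb3l hb3u
    interval_cases k <;> first
      | (exfalso; revert h1; norm_num; done)
      | simp
  clear hee1 hee2 ha2 hb2 hkk hk0' h1
  rcases hkcases with rfl | rfl | rfl | rfl | rfl | rfl | rfl
  · have hn1a : 41 ≤ n1 := by omega
    have hn1b : n1 ≤ 44 := by omega
    have hn2a : 42 ≤ n2 := by omega
    have hn2b : n2 ≤ 43 := by omega
    interval_cases n1 <;> interval_cases n2 <;> subst ha <;> subst hb <;>
      omega
  · have hn1a : 127 ≤ n1 := by omega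
    have hn1b : n1 ≤ 129 := by omega
    have hn2a : 128 ≤ n2 := by omega
    have hn2b : n2 ≤ 128 := by omega
    interval_cases n1 <;> interval_cases n2 <;> subst ha <;> subst hb <;>
      omega
  · have hn1a : 212 ≤ n1 := by omega
    have hn1b : n1 ≤ 215 := by omega
    have hn2a : 213 ≤ n2 := by omega
    have hn2b : n2 ≤ 214 := by omega
    interval_cases n1 <;> interval_cases n2 <;> subst ha <;> subst hb <;>
      omega
  · have hn1a : 297 ≤ n1 := by omega
    have hn1b : n1 ≤ 300 := by omega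
    have hn2a : 298 ≤ n2 := by omega
    have hn2b : n2 ≤ 299 := by omega
    interval_cases n1 <;> interval_cases n2 <;> subst ha <;> subst hb <;>
      omega
  · have hn1a : 383 ≤ n1 := by omega
    have hn1b : n1 ≤ 385 := by omega
    have hn2a : 384 ≤ n2 := by omega
    have hn2b : n2 ≤ 384 := by omega
    interval_cases n1 <;> interval_cases n2 <;> subst ha <;> subst hb <;>
      omega
  · have hn1a : 468 ≤ n1 := by omega
    have hn1b : n1 ≤ 471 := by omega
    have hn2a : 469 ≤ n2 := by omega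
    have hn2b : n2 ≤ 470 := by omega
    interval_cases n1 <;> interval_cases n2 <;> subst ha <;> subst hb <;>
      omega
  · have hn1a : 639 ≤ n1 := by omega
    have hn1b : n1 ≤ 641 := by omega
    have hn2a : 640 ≤ n2 := by omega
    have hn2b : n2 ≤ 640 := by omega
    interval_cases n1 <;> interval_cases n2 <;> subst ha <;> subst hb <;>
      omega

theorem no_defect_zero_24 {G : Type} [Group G] [Fintype G]
    (hG : Nat.card G = 244823040)
    (xA xB : G) (hA3 : xA ^ 3 = 1) (hB3 : xB ^ 3 = 1) (hA1 : xA ≠ 1) (hB1 : xB ≠ 1)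
    (hAA : IsConj (xA ^ 2) xA) (hBB : IsConj (xB ^ 2) xB) (hAB : ¬ IsConj xA xB)
    (DA DB : Subgroup G) (hDA : Nat.card DA = 8) (hDB : Nat.card DB = 8)
    (hDAc : ∀ d ∈ DA, Commute xA d) (hDBc : ∀ d ∈ DB, Commute xB d)
    (T : Subgroup G) (hT : Nat.card T = 27)
    (hTsum : ∀ (f : G → ℂ), IsClassFunction G f → ∀ [Fintype T],
      ∑ t : T, f (t : G) = f 1 + 14 * f xA + 12 * f xB)
    (hCA : Nat.card (Subgroup.centralizer ({xA} : Set G)) ≤ 2160)
    (hCB : Nat.card (Subgroup.centralizer ({xB} : Set G)) ≤ 504)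
    (χ : IrrCharacter G) (hχ : 2 ^ 10 ∣ charDegree (χ : G → ℂ)) : False := by
  classical
  set d := charDegree (χ : G → ℂ) with hd
  have hd1 : (χ : G → ℂ) 1 = (d : ℂ) := Cfsg.Agent.Lib.Helper81.irr_apply_one_eq_charDegree χ
  have hdvd : d ∣ 244823040 := by
    rw [← hG]
    exact Cfsg.Agent.Lib.Helper74.irr_charDegree_dvd_card χ
  have hvan : ∀ g : G, 2 ∣ orderOf g → (χ : G → ℂ) g = 0 := fun g hg =>
    Cfsg.Agent.Lib.Helper74.dz_vanish χ 2 Nat.prime_two
      (by rw [hG, fact_two_244823040]; exact hχ) g hg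
  have hχc : IsCharacter G (χ : G → ℂ) := Cfsg.Agent.Lib.Helper3.IsIrrCharacter.isCharacter χ.2
  have hcl := Cfsg.Agent.Lib.Helper3.IsCharacter.isClassFunction hχc
  set a := (χ : G → ℂ) xA with ha
  set b := (χ : G → ℂ) xB with hb
  obtain ⟨n1, hn1⟩ := cong24 hχc hvan xA hA3 hAA DA hDA hDAc
  obtain ⟨n2, hn2⟩ := cong24 hχc hvan xB hB3 hBB DB hDB hDBc
  rw [hd1, ← ha] at hn1
  rw [hd1, ← hb] at hn2
  -- the group of order 27
  have := Fintype.ofFinite T
  obtain ⟨n3, hn3⟩ := char_sum_nat hχc T.subtype (1 : T →* ℂˣ)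
  have hsum : ∑ t : T, (χ : G → ℂ) (T.subtype t) * conj (((1 : T →* ℂˣ) t : ℂˣ) : ℂ) =
      (d : ℂ) + 14 * a + 12 * b := by
    rw [← hd1, ha, hb, ← hTsum (χ : G → ℂ) hcl]
    apply Finset.sum_congr rfl
    intro t _
    simp
  rw [hsum, hT] at hn3
  -- integers
  have hae : a = (((d : ℤ) - 24 * n1 : ℤ) : ℂ) := by
    push_cast
    linear_combination -hn1
  have hbe : b = (((d : ℤ) - 24 * n2 : ℤ) : ℂ) := by
    push_cast
    linear_combination -hn2
  have h4 : (d : ℤ) + 14 * ((d : ℤ) - 24 * n1) + 12 * ((d : ℤ) - 24 * n2) = 27 * n3 := by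
    have : (((d : ℤ) + 14 * ((d : ℤ) - 24 * n1) + 12 * ((d : ℤ) - 24 * n2) : ℤ) : ℂ) =
        ((27 * n3 : ℤ) : ℂ) := by
      push_cast
      rw [hae, hbe] at hn3
      push_cast at hn3
      linear_combination hn3
    exact_mod_cast this
  -- the orthogonality bound
  have hbd := class_bound2 χ xA xB hA1 hB1 hAB
  rw [hd1, ← ha, ← hb, hae, hbe, hG] at hbd
  set e1 : ℤ := (d : ℤ) - 24 * n1 with he1
  set e2 : ℤ := (d : ℤ) - 24 * n2 with he2
  have hns1 : Complex.normSq ((d : ℂ)) = ((d : ℤ) : ℝ) * ((d : ℤ) : ℝ) := by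
    have : ((d : ℂ)) = (((d : ℤ) : ℝ) : ℂ) := by push_cast; rfl
    rw [this, Complex.normSq_ofReal]
  have hns2 : ∀ e : ℤ, Complex.normSq ((e : ℂ)) = (e : ℝ) * (e : ℝ) := by
    intro e
    have : ((e : ℂ)) = ((e : ℝ) : ℂ) := by push_cast; rfl
    rw [this, Complex.normSq_ofReal]
  rw [hns1, hns2, hns2] at hbd
  set iA := (Subgroup.centralizer ({xA} : Set G)).index with hiA
  set iB := (Subgroup.centralizer ({xB} : Set G)).index with hiB
  have hiA1 : Nat.card (Subgroup.centralizer ({xA} : Set G)) * iA = 244823040 := by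
    rw [hiA, Subgroup.card_mul_index, hG]
  have hiB1 : Nat.card (Subgroup.centralizer ({xB} : Set G)) * iB = 244823040 := by
    rw [hiB, Subgroup.card_mul_index, hG]
  have hiA2 : 113344 ≤ iA := by
    by_contra hlt
    have hlt := Nat.lt_of_not_le hlt
    have : Nat.card (Subgroup.centralizer ({xA} : Set G)) * iA ≤ 2160 * 113343 :=
      Nat.mul_le_mul hCA (by omega)
    omega
  have hiB2 : 485760 ≤ iB := by
    by_contra hlt
    have hlt := Nat.lt_of_not_le hlt
    have : Nat.card (Subgroup.centralizer ({xB} : Set G)) * iB ≤ 504 * 485759 :=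
      Nat.mul_le_mul hCB (by omega)
    omega
  have hbZ : (d : ℤ) * d + (iA : ℤ) * (e1 * e1) + (iB : ℤ) * (e2 * e2) ≤ 244823040 := by
    have : (((d : ℤ) * d + (iA : ℤ) * (e1 * e1) + (iB : ℤ) * (e2 * e2) : ℤ) : ℝ) ≤
        ((244823040 : ℤ) : ℝ) := by
      push_cast
      push_cast at hbd
      linarith
    exact_mod_cast this
  have hee1 : 0 ≤ e1 * e1 := mul_self_nonneg e1
  have hee2 : 0 ≤ e2 * e2 := mul_self_nonneg e2
  have hbZ2 : (d : ℤ) * d + 113344 * (e1 * e1) + 485760 * (e2 * e2) ≤ 244823040 := by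
    have h1 : (113344 : ℤ) ≤ iA := by exact_mod_cast hiA2
    have h2 : (485760 : ℤ) ≤ iB := by exact_mod_cast hiB2
    nlinarith
  exact arith_contra24 d n1 n2 n3 hdvd hχ hbZ2 h4

end Cfsg.Agent.Lib.Helper92.Blk24Gen
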