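import Cfsg.Agent.Lib.Helper93.FixCounts
import Cfsg.Agent.Lib.Helper93.NormTools
import Cfsg.Agent.Lib.Helper93.Enum
import Cfsg.Agent.Lib.Helper93.M24Structure

set_option autoImplicit false

/-! Tools for explicit computations in `M24` with coded permutations: elements of the subtype,
index functions, orbit bounds, and subgroups given by closed lists of codes. -/

namespace Cfsg.Agent.Lib.Helper92.Blk24Tools

open Cfsg Cfsg.Agent.Lib.Helper93.Golay

/-! ### Codes are determined by their permutation -/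

theorem testBit_papp (c i r : ℕ) (hr : r < 5) :
    (papp c i).testBit r = c.testBit (5 * i + r) := by
  unfold papp
  rw [Nat.testBit_and, Nat.testBit_shiftRight]
  have h31 : (31 : ℕ).testBit r = true := by
    interval_cases r <;> decide
  rw [h31, Bool.and_true]

theorem eq_of_papp_eq {c c' : ℕ} (h : c < 2 ^ 120) (h' : c' < 2 ^ 120)
    (hp : ∀ i < 24, papp c i = papp c' i) : c = c' := by
  apply Nat.eq_of_testBit_eq
  intro j
  by_cases hj : j < 120
  · have h1 := testBit_papp c (j / 5) (j % 5) (Nat.mod_lt _ (by norm_num))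
    have h2 := testBit_papp c' (j / 5) (j % 5) (Nat.mod_lt _ (by norm_num))
    rw [Nat.div_add_mod] at h1 h2
    rw [← h1, ← h2, hp (j / 5) (by omega)]
  · have hj' : 120 ≤ j := by omega
    have e1 : c < 2 ^ j := lt_of_lt_of_le h (Nat.pow_le_pow_right (by norm_num) hj')
    have e2 : c' < 2 ^ j := lt_of_lt_of_le h' (Nat.pow_le_pow_right (by norm_num) hj')
    rw [Nat.testBit_lt_two_pow e1, Nat.testBit_lt_two_pow e2]

theorem code_inj {c c' : ℕ} (h : c < 2 ^ 120) (h' : c' < 2 ^ 120) (hc : isPerm c = true)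
    (hc' : isPerm c' = true) (he : permC c = permC c') : c = c' := by
  apply eq_of_papp_eq h h'
  intro i hi
  have h1 := ptIdx_permC hc (ptOf ⟨i, hi⟩)
  have h2 := ptIdx_permC hc' (ptOf ⟨i, hi⟩)
  rw [ptIdx_ptOf] at h1 h2
  simp only at h1 h2
  rw [← h1, ← h2, he]

/-! ### Elements of `M24` from codes -/

/-- the element of `M24` with a given code -/
def elt (c : ℕ) : ↥M24 := if h : isAutC c = true then ⟨permC c, permC_mem_M24 h⟩ else 1

theorem elt_val {c : ℕ} (h : isAutC c = true) :
    ((elt c : ↥M24) : Equiv.Perm GolayPt) = permC c := by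
  unfold elt
  rw [dif_pos h]

theorem elt_prod {ws : List ℕ} (h : ∀ S ∈ ws, isAutC S = true) :
    (((ws.map elt).prod : ↥M24) : Equiv.Perm GolayPt) = prodC ws := by
  induction ws with
  | nil => rfl
  | cons S ws ih =>
    rw [List.map_cons, List.prod_cons, Subgroup.coe_mul, elt_val (h S List.mem_cons_self),
      ih (fun T hT => h T (List.mem_cons_of_mem _ hT)), prodC_cons]

theorem elt_word_eq {ws ws' : List ℕ} (h : ws.all isAutC = true) (h' : ws'.all isAutC = true)
    (hc : eqW ws ws' = true) : (ws.map elt).prod = (ws'.map elt).prod := by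
  apply Subtype.ext
  rw [elt_prod (List.all_eq_true.1 h), elt_prod (List.all_eq_true.1 h')]
  exact prodC_eq_of_eqW (fun S hS => isPerm_of_isAutC (List.all_eq_true.1 h S hS))
    (fun S hS => isPerm_of_isAutC (List.all_eq_true.1 h' S hS)) hc

theorem elt_ne_one {c : ℕ} (h : isAutC c = true) (hc : eqW [c] [] = false) : elt c ≠ 1 := by
  intro he
  have h1 : permC c = 1 := by
    rw [← elt_val h, he]
    rfl
  have hp := isPerm_of_isAutC h
  have : eqW [c] [] = true := by
    apply eqW_of_prodC_eq (ws := [c]) (ws' := [])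
    · intro S hS
      rw [List.mem_singleton] at hS
      rw [hS]
      exact hp
    · simp
    · rw [prodC_singleton, prodC_nil]
      exact h1
  rw [hc] at this
  exact Bool.false_ne_true this

/-! ### Index functions -/

/-- the point with a given index -/
def PP (k : ℕ) : GolayPt := if h : k < 24 then ptOf ⟨k, h⟩ else ptOf 0

theorem PP_ptIdx (p : GolayPt) : PP (ptIdx p) = p := by
  unfold PP
  rw [dif_pos (ptIdx p).isLt]
  exact ptOf_ptIdx p

theorem ptIdx_PP {k : ℕ} (hk : k < 24) : ((ptIdx (PP k) : Fin 24) : ℕ) = k := by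
  unfold PP
  rw [dif_pos hk, ptIdx_ptOf]

theorem PP_eq_P (k : ℕ) (hk : k < 24) : PP k = P k hk := by
  unfold PP P
  rw [dif_pos hk]

/-- the index function of a permutation -/
def idxF (g : Equiv.Perm GolayPt) (k : ℕ) : ℕ := ((ptIdx (g (PP k)) : Fin 24) : ℕ)

theorem idxF_spec (g : Equiv.Perm GolayPt) (p : GolayPt) :
    ((ptIdx (g p) : Fin 24) : ℕ) = idxF g (ptIdx p) := by
  unfold idxF
  rw [PP_ptIdx]

theorem idxF_lt (g : Equiv.Perm GolayPt) (k : ℕ) : idxF g k < 24 := (ptIdx _).isLt

theorem idxF_inj (g : Equiv.Perm GolayPt) {a b : ℕ} (ha : a < 24) (hb : b < 24)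
    (h : idxF g a = idxF g b) : a = b := by
  unfold idxF at h
  have h1 : ptIdx (g (PP a)) = ptIdx (g (PP b)) := Fin.ext h
  have h2 : g (PP a) = g (PP b) := ptEquiv.injective h1
  have h3 := g.injective h2
  have h4 : ((ptIdx (PP a) : Fin 24) : ℕ) = ((ptIdx (PP b) : Fin 24) : ℕ) := by rw [h3]
  rwa [ptIdx_PP ha, ptIdx_PP hb] at h4

theorem idxF_comm {g : Equiv.Perm GolayPt} {c : ℕ} (hc : isPerm c = true)
    (h : g * permC c = permC c * g) (k : ℕ) (hk : k < 24) :
    idxF g (papp c k) = papp c (idxF g k) := by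
  have e := congrArg (fun f : Equiv.Perm GolayPt => ((ptIdx (f (PP k)) : Fin 24) : ℕ)) h
  simp only [Equiv.Perm.mul_apply] at e
  rw [idxF_spec g, ptIdx_permC hc, ptIdx_permC hc, ptIdx_PP hk] at e
  exact e

theorem idxF_fix {g : Equiv.Perm GolayPt} {k : ℕ} (hk : k < 24)
    (h : g ∈ MulAction.stabilizer (Equiv.Perm GolayPt) (PP k)) : idxF g k = k := by
  rw [MulAction.mem_stabilizer_iff, Equiv.Perm.smul_def] at h
  unfold idxF
  rw [h, ptIdx_PP hk]

theorem mem_stab_of_idxF {g : Equiv.Perm GolayPt} {k : ℕ} (hk : k < 24) (h : idxF g k = k) :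
    g (PP k) = PP k := by
  unfold idxF at h
  apply ptEquiv.injective
  show ptIdx _ = ptIdx _
  apply Fin.ext
  rw [h, ptIdx_PP hk]

/-- elements of `M24` agreeing with a coded element on the five standard points -/
theorem coset5 {C0 : ℕ} (hC0 : isAutC C0 = true) {g : Equiv.Perm GolayPt} (hg : g ∈ M24)
    (h : ∀ i, i < 5 → idxF g i = papp C0 i) : ∃ S ∈ H5list, g = prodC [C0, S] := by
  have hp := isPerm_of_isAutC hC0
  have hu : (permC C0)⁻¹ * g ∈ M24 := M24.mul_mem (M24.inv_mem (permC_mem_M24 hC0)) hg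
  have h31 : (permC C0)⁻¹ * g ∈ Hfix 31 := by
    apply mem_Hfix_31 hu
    intro i hi
    rw [Equiv.Perm.mul_apply, Equiv.Perm.inv_eq_iff_eq]
    have hi24 : i < 24 := by omega
    apply ptEquiv.injective
    show ptIdx _ = ptIdx _
    apply Fin.ext
    rw [ptIdx_permC hp, ← PP_eq_P i hi24, ptIdx_PP hi24, ← h i hi]
    rfl
  obtain ⟨S, hS, hSe⟩ := H5_complete h31
  refine ⟨S, hS, ?_⟩
  rw [prodC_cons, prodC_singleton, ← hSe]
  group

/-! ### Orbit bounds -/

theorem card_le_step (H : Subgroup (Equiv.Perm GolayPt)) (p : GolayPt) (L : List ℕ)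
    (hL : ∀ g ∈ H, ((ptIdx (g p) : Fin 24) : ℕ) ∈ L) :
    Nat.card H ≤ L.length *
      Nat.card (H ⊓ MulAction.stabilizer (Equiv.Perm GolayPt) p : Subgroup _) := by
  classical
  have h1 : Nat.card H = Nat.card (MulAction.orbit H p) * Nat.card (MulAction.stabilizer H p) := by
    rw [Subgroup.card_eq_card_quotient_mul_card_subgroup (MulAction.stabilizer H p),
      Nat.card_congr (MulAction.orbitEquivQuotientStabilizer H p)]
  have h2 : Nat.card (MulAction.orbit H p) ≤ L.length := by
    have hsub : MulAction.orbit H p ⊆ (↑((L.map PP).toFinset) : Set GolayPt) := by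
      rintro q ⟨g, rfl⟩
      rw [Finset.mem_coe, List.mem_toFinset, List.mem_map]
      refine ⟨_, hL g.1 g.2, ?_⟩
      rw [PP_ptIdx]
      rfl
    rw [Nat.card_coe_set_eq]
    calc (MulAction.orbit H p).ncard ≤ (↑((L.map PP).toFinset) : Set GolayPt).ncard :=
          Set.ncard_le_ncard hsub (Finset.finite_toSet _)
      _ = ((L.map PP).toFinset).card := Set.ncard_coe_finset _
      _ ≤ (L.map PP).length := List.toFinset_card_le _
      _ = L.length := List.length_map _
  have h3 : Nat.card (MulAction.stabilizer H p) ≤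
      Nat.card (H ⊓ MulAction.stabilizer (Equiv.Perm GolayPt) p : Subgroup _) := by
    apply Nat.card_le_card_of_injective
      (fun k : MulAction.stabilizer H p =>
        (⟨k.1.1, Subgroup.mem_inf.2 ⟨k.1.2, MulAction.mem_stabilizer_iff.2
          (MulAction.mem_stabilizer_iff.1 k.2)⟩⟩ :
          (H ⊓ MulAction.stabilizer (Equiv.Perm GolayPt) p : Subgroup _)))
    intro a b hab
    apply Subtype.ext
    apply Subtype.ext
    exact congrArg (fun k : (H ⊓ MulAction.stabilizer (Equiv.Perm GolayPt) p : Subgroup _) =>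
      (k : Equiv.Perm GolayPt)) hab
  rw [h1]
  exact Nat.mul_le_mul h2 h3

theorem card_le_of_codes (H : Subgroup (Equiv.Perm GolayPt)) (L : List ℕ)
    (h : ∀ g ∈ H, ∃ c ∈ L, g = permC c) : Nat.card H ≤ L.length := by
  classical
  have hsub : (H : Set (Equiv.Perm GolayPt)) ⊆ (↑((L.map permC).toFinset) : Set _) := by
    intro g hg
    obtain ⟨c, hc, rfl⟩ := h g hg
    rw [Finset.mem_coe, List.mem_toFinset, List.mem_map]
    exact ⟨c, hc, rfl⟩
  have hc : Nat.card H = (H : Set (Equiv.Perm GolayPt)).ncard :=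
    Nat.card_coe_set_eq (H : Set (Equiv.Perm GolayPt))
  rw [hc]
  calc (H : Set (Equiv.Perm GolayPt)).ncard ≤ (↑((L.map permC).toFinset) : Set _).ncard :=
        Set.ncard_le_ncard hsub (Finset.finite_toSet _)
    _ = ((L.map permC).toFinset).card := Set.ncard_coe_finset _
    _ ≤ (L.map permC).length := List.toFinset_card_le _
    _ = L.length := List.length_map _

/-! ### Subgroups given by closed lists of codes -/

/-- a duplicate-free list of codes of elements of `M24`, containing the identity and closed under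
products and inverses -/
def grpOK (L : List ℕ) : Bool :=
  L.all (fun c => isAutC c && Nat.blt c (2 ^ 120)) && L.any (fun c => Nat.beq c idCode) &&
    L.all (fun a => L.any (fun b => eqW [a, b] []) &&
      L.all (fun b => L.any (fun c => eqW [a, b] [c])))

theorem grpOK_aut {L : List ℕ} (h : grpOK L = true) {c : ℕ} (hc : c ∈ L) : isAutC c = true := by
  unfold grpOK at h
  simp only [Bool.and_eq_true] at h
  have := List.all_eq_true.1 h.1.1 c hc
  rw [Bool.and_eq_true] at this
  exact this.1

theorem grpOK_lt {L : List ℕ} (h : grpOK L = true) {c : ℕ} (hc : c ∈ L) : c < 2 ^ 120 := by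
  unfold grpOK at h
  simp only [Bool.and_eq_true] at h
  have := List.all_eq_true.1 h.1.1 c hc
  rw [Bool.and_eq_true] at this
  exact Nat.le_of_ble_eq_true this.2

theorem perm_pair {a b : ℕ} (ha : isPerm a = true) (hb : isPerm b = true) :
    ∀ S ∈ [a, b], isPerm S = true := by
  intro S hS
  simp only [List.mem_cons, List.not_mem_nil, or_false] at hS
  rcases hS with rfl | rfl
  · exact ha
  · exact hb

theorem perm_one {a : ℕ} (ha : isPerm a = true) : ∀ S ∈ [a], isPerm S = true := by
  intro S hS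
  rw [List.mem_singleton] at hS
  rw [hS]
  exact ha

theorem prodC_pair (c c' : ℕ) : prodC [c, c'] = permC c * permC c' := by
  rw [prodC_cons, prodC_singleton]

/-- the subgroup of the listed elements -/
def listGrp (L : List ℕ) (h : grpOK L = true) : Subgroup (Equiv.Perm GolayPt) where
  carrier := {g | ∃ c ∈ L, permC c = g}
  one_mem' := by
    have h' := h
    unfold grpOK at h'
    simp only [Bool.and_eq_true] at h'
    obtain ⟨c, hc, hc1⟩ := List.any_eq_true.1 h'.1.2
    refine ⟨c, hc, ?_⟩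
    rw [Nat.eq_of_beq_eq_true hc1]
    exact permC_idCode
  mul_mem' := by
    rintro _ _ ⟨a, ha, rfl⟩ ⟨b, hb, rfl⟩
    have h' := h
    unfold grpOK at h'
    simp only [Bool.and_eq_true] at h'
    have h1 := List.all_eq_true.1 h'.2 a ha
    rw [Bool.and_eq_true] at h1
    have h2 := List.all_eq_true.1 h1.2 b hb
    obtain ⟨c, hc, hc1⟩ := List.any_eq_true.1 h2
    refine ⟨c, hc, ?_⟩
    have := prodC_eq_of_eqW (perm_pair (isPerm_of_isAutC (grpOK_aut h ha))
      (isPerm_of_isAutC (grpOK_aut h hb))) (perm_one (isPerm_of_isAutC (grpOK_aut h hc))) hc1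
    rw [prodC_pair, prodC_singleton] at this
    exact this.symm
  inv_mem' := by
    rintro _ ⟨a, ha, rfl⟩
    have h' := h
    unfold grpOK at h'
    simp only [Bool.and_eq_true] at h'
    have h1 := List.all_eq_true.1 h'.2 a ha
    rw [Bool.and_eq_true] at h1
    obtain ⟨b, hb, hb1⟩ := List.any_eq_true.1 h1.1
    refine ⟨b, hb, ?_⟩
    have := prodC_eq_of_eqW (perm_pair (isPerm_of_isAutC (grpOK_aut h ha))
      (isPerm_of_isAutC (grpOK_aut h hb))) (by simp) hb1
    rw [prodC_pair, prodC_nil] at this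
    exact (inv_eq_of_mul_eq_one_right this).symm

theorem mem_listGrp {L : List ℕ} {h : grpOK L = true} {g : Equiv.Perm GolayPt} :
    g ∈ listGrp L h ↔ ∃ c ∈ L, permC c = g := Iff.rfl

theorem listGrp_le {L : List ℕ} (h : grpOK L = true) : listGrp L h ≤ M24 := by
  rintro _ ⟨c, hc, rfl⟩
  exact permC_mem_M24 (grpOK_aut h hc)

theorem code_inj_of_grpOK {L : List ℕ} (h : grpOK L = true) :
    ∀ x ∈ L, ∀ y ∈ L, permC x = permC y → x = y := fun _ hx _ hy he =>
  code_inj (grpOK_lt h hx) (grpOK_lt h hy) (isPerm_of_isAutC (grpOK_aut h hx))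
    (isPerm_of_isAutC (grpOK_aut h hy)) he

theorem card_listGrp {L : List ℕ} (h : grpOK L = true) (hnd : L.Nodup) :
    Nat.card (listGrp L h) = L.length := by
  have hc : Nat.card (listGrp L h) = ((listGrp L h : Subgroup _) : Set (Equiv.Perm GolayPt)).ncard :=
    Nat.card_coe_set_eq ((listGrp L h : Subgroup _) : Set (Equiv.Perm GolayPt))
  rw [hc]
  exact ncard_eq_length permC L hnd (code_inj_of_grpOK h) _ (fun a => Iff.rfl)

/-- the same subgroup inside `M24` -/
def listGrpM (L : List ℕ) (h : grpOK L = true) : Subgroup ↥M24 := (listGrp L h).subgroupOf M24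

theorem card_listGrpM {L : List ℕ} (h : grpOK L = true) (hnd : L.Nodup) :
    Nat.card (listGrpM L h) = L.length := by
  rw [← card_listGrp h hnd]
  exact Nat.card_congr (Subgroup.subgroupOfEquivOfLe (listGrp_le h)).toEquiv

theorem mem_listGrpM {L : List ℕ} {h : grpOK L = true} {g : ↥M24} :
    g ∈ listGrpM L h ↔ ∃ c ∈ L, elt c = g := by
  unfold listGrpM
  rw [Subgroup.mem_subgroupOf, mem_listGrp]
  constructor
  · rintro ⟨c, hc, he⟩
    refine ⟨c, hc, ?_⟩
    apply Subtype.ext
    rw [elt_val (grpOK_aut h hc)]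
    exact he
  · rintro ⟨c, hc, rfl⟩
    exact ⟨c, hc, (elt_val (grpOK_aut h hc)).symm⟩

theorem elt_inj_of_grpOK {L : List ℕ} (h : grpOK L = true) :
    ∀ x ∈ L, ∀ y ∈ L, elt x = elt y → x = y := by
  intro x hx y hy he
  apply code_inj_of_grpOK h x hx y hy
  rw [← elt_val (grpOK_aut h hx), ← elt_val (grpOK_aut h hy), he]

end Cfsg.Agent.Lib.Helper92.Blk24Tools
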