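import Cfsg.Agent.Lib.Helper92.Blk24Tools
import Cfsg.Agent.Lib.Helper92.Blk24Data
import Cfsg.Agent.Lib.Helper92.Blk24Gen

set_option autoImplicit false

/-! `M24` has no irreducible character of `2`-defect zero. -/

namespace Cfsg.Agent.Lib.Helper92.Blk24Zero

open Cfsg Cfsg.Agent.Lib.Helper93.Golay Cfsg.Agent.Lib.Helper92.Blk24Tools
  Cfsg.Agent.Lib.Helper92.Blk24Data

instance finite_M24 : Finite ↥M24 :=
  Nat.finite_of_card_ne_zero (by rw [card_M24]; norm_num)

/-! ### The two elements of order three -/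

theorem x_facts : isAutC xaCode = true ∧ isAutC xbCode = true ∧ isAutC wAA = true ∧
    isAutC wBB = true ∧
    eqW [xaCode, xaCode, xaCode] [] = true ∧ eqW [xbCode, xbCode, xbCode] [] = true ∧
    eqW [xaCode] [] = false ∧ eqW [xbCode] [] = false ∧
    eqW [wAA, xaCode, xaCode] [xaCode, wAA] = true ∧
    eqW [wBB, xbCode, xbCode] [xbCode, wBB] = true := by decide +kernel

theorem xa_aut : isAutC xaCode = true := x_facts.1

theorem xb_aut : isAutC xbCode = true := x_facts.2.1

theorem xa_perm : isPerm xaCode = true := isPerm_of_isAutC xa_aut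

theorem xb_perm : isPerm xbCode = true := isPerm_of_isAutC xb_aut

/-- the element of class `3A` -/
def xa : ↥M24 := elt xaCode

/-- the element of class `3B` -/
def xb : ↥M24 := elt xbCode

theorem all_of_mem {ws : List ℕ} (h : ∀ S ∈ ws, isAutC S = true) : ws.all isAutC = true :=
  List.all_eq_true.2 h

theorem xa_pow : xa ^ 3 = 1 := by
  have := elt_word_eq (ws := [xaCode, xaCode, xaCode]) (ws' := [])
    (by simp [xa_aut]) (by simp) x_facts.2.2.2.2.1
  unfold xa
  simpa [pow_succ, mul_assoc] using this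

theorem xb_pow : xb ^ 3 = 1 := by
  have := elt_word_eq (ws := [xbCode, xbCode, xbCode]) (ws' := [])
    (by simp [xb_aut]) (by simp) x_facts.2.2.2.2.2.1
  unfold xb
  simpa [pow_succ, mul_assoc] using this

theorem xa_ne : xa ≠ 1 := elt_ne_one xa_aut x_facts.2.2.2.2.2.2.1

theorem xb_ne : xb ≠ 1 := elt_ne_one xb_aut x_facts.2.2.2.2.2.2.2.1

theorem xa_conj : IsConj (xa ^ 2) xa := by
  rw [isConj_iff]
  refine ⟨elt wAA, ?_⟩
  have := elt_word_eq (ws := [wAA, xaCode, xaCode]) (ws' := [xaCode, wAA])
    (by simp [xa_aut, x_facts.2.2.1]) (by simp [xa_aut, x_facts.2.2.1])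
    x_facts.2.2.2.2.2.2.2.2.1
  simp only [List.map_cons, List.map_nil, List.prod_cons, List.prod_nil, mul_one] at this
  unfold xa
  rw [pow_two, this, mul_inv_cancel_right]

theorem xb_conj : IsConj (xb ^ 2) xb := by
  rw [isConj_iff]
  refine ⟨elt wBB, ?_⟩
  have := elt_word_eq (ws := [wBB, xbCode, xbCode]) (ws' := [xbCode, wBB])
    (by simp [xb_aut, x_facts.2.2.2.1]) (by simp [xb_aut, x_facts.2.2.2.1])
    x_facts.2.2.2.2.2.2.2.2.2
  simp only [List.map_cons, List.map_nil, List.prod_cons, List.prod_nil, mul_one] at this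
  unfold xb
  rw [pow_two, this, mul_inv_cancel_right]

theorem fix_facts : papp xaCode 0 = 0 ∧ (∀ k < 24, papp xbCode k ≠ k) := by decide +kernel

theorem xa_xb_not_conj : ¬ IsConj xa xb := by
  rw [isConj_iff]
  rintro ⟨c, hc⟩
  have h1 : (c : Equiv.Perm GolayPt) * permC xaCode = permC xbCode * (c : Equiv.Perm GolayPt) := by
    have h2 : c * xa = xb * c := by
      rw [← hc]
      group
    have h3 := congrArg (fun g : ↥M24 => (g : Equiv.Perm GolayPt)) h2
    simp only [Subgroup.coe_mul] at h3
    unfold xa xb at h3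
    rwa [elt_val xa_aut, elt_val xb_aut] at h3
  have h4 := congrArg (fun g : Equiv.Perm GolayPt => ((ptIdx (g (PP 0)) : Fin 24) : ℕ)) h1
  simp only [Equiv.Perm.mul_apply] at h4
  have h5 : permC xaCode (PP 0) = PP 0 := by
    apply mem_stab_of_idxF (by norm_num)
    unfold idxF
    rw [ptIdx_permC xa_perm, ptIdx_PP (by norm_num), fix_facts.1]
  rw [h5, ptIdx_permC xb_perm] at h4
  exact fix_facts.2 _ (ptIdx _).isLt h4.symm

/-! ### The two groups of order eight -/

theorem da_ok : grpOK daList = true := by decide +kernel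

theorem db_ok : grpOK dbList = true := by decide +kernel

theorem d_facts : daList.Nodup ∧ dbList.Nodup ∧ daList.length = 8 ∧ dbList.length = 8 ∧
    daList.all (fun c => eqW [xaCode, c] [c, xaCode]) = true ∧
    dbList.all (fun c => eqW [xbCode, c] [c, xbCode]) = true := by decide +kernel

/-- a group of order eight centralising `xa` -/
def DA : Subgroup ↥M24 := listGrpM daList da_ok

/-- a group of order eight centralising `xb` -/
def DB : Subgroup ↥M24 := listGrpM dbList db_ok

theorem card_DA : Nat.card DA = 8 := by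
  unfold DA
  rw [card_listGrpM da_ok d_facts.1, d_facts.2.2.1]

theorem card_DB : Nat.card DB = 8 := by
  unfold DB
  rw [card_listGrpM db_ok d_facts.2.1, d_facts.2.2.2.1]

theorem DA_comm : ∀ d ∈ DA, Commute xa d := by
  intro d hd
  unfold DA at hd
  rw [mem_listGrpM] at hd
  obtain ⟨c, hc, rfl⟩ := hd
  have hca := grpOK_aut da_ok hc
  have := elt_word_eq (ws := [xaCode, c]) (ws' := [c, xaCode])
    (by simp [xa_aut, hca]) (by simp [xa_aut, hca])
    (List.all_eq_true.1 d_facts.2.2.2.2.1 c hc)
  simp only [List.map_cons, List.map_nil, List.prod_cons, List.prod_nil, mul_one] at this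
  exact this

theorem DB_comm : ∀ d ∈ DB, Commute xb d := by
  intro d hd
  unfold DB at hd
  rw [mem_listGrpM] at hd
  obtain ⟨c, hc, rfl⟩ := hd
  have hca := grpOK_aut db_ok hc
  have := elt_word_eq (ws := [xbCode, c]) (ws' := [c, xbCode])
    (by simp [xb_aut, hca]) (by simp [xb_aut, hca])
    (List.all_eq_true.1 d_facts.2.2.2.2.2 c hc)
  simp only [List.map_cons, List.map_nil, List.prod_cons, List.prod_nil, mul_one] at this
  exact this

/-! ### The group of order `27` -/

/-- the codes of the elements of the group of order `27` -/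
def tList : List ℕ := idCode :: (tA.map Prod.fst ++ tB.map Prod.fst)

theorem t_ok : grpOK tList = true := by decide +kernel

theorem t_facts : tList.Nodup ∧ tList.length = 27 ∧ tA.length = 14 ∧ tB.length = 12 ∧
    tA.all (fun e => isAutC e.1 && isAutC e.2 && eqW [e.2, e.1] [xaCode, e.2]) = true ∧
    tB.all (fun e => isAutC e.1 && isAutC e.2 && eqW [e.2, e.1] [xbCode, e.2]) = true := by
  decide +kernel

/-- a Sylow `3`-subgroup -/
def T : Subgroup ↥M24 := listGrpM tList t_ok

theorem card_T : Nat.card T = 27 := by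
  unfold T
  rw [card_listGrpM t_ok t_facts.1, t_facts.2.1]

theorem elt_idCode : elt idCode = 1 := by
  apply Subtype.ext
  rw [elt_val idCode_ok.1, permC_idCode]
  rfl

theorem T_sum (f : ↥M24 → ℂ) (hf : IsClassFunction ↥M24 f) [Fintype T] :
    ∑ t : T, f (t : ↥M24) = f 1 + 14 * f xa + 12 * f xb := by
  classical
  have key : ∀ x : ↥M24, x ∈ (tList.map elt).toFinset ↔ x ∈ T := by
    intro x
    unfold T
    rw [mem_listGrpM, List.mem_toFinset, List.mem_map]
  have hnd : (tList.map elt).Nodup :=
    List.Nodup.map_on (elt_inj_of_grpOK t_ok) t_facts.1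
  rw [← Finset.sum_subtype (tList.map elt).toFinset key f, List.sum_toFinset f hnd]
  have hA : ∀ e ∈ tA, f (elt e.1) = f xa := by
    intro e he
    have h1 := List.all_eq_true.1 t_facts.2.2.2.2.1 e he
    simp only [Bool.and_eq_true] at h1
    have := elt_word_eq (ws := [e.2, e.1]) (ws' := [xaCode, e.2])
      (by simp [h1.1.1, h1.1.2]) (by simp [xa_aut, h1.1.2]) h1.2
    simp only [List.map_cons, List.map_nil, List.prod_cons, List.prod_nil, mul_one] at this
    have h2 : xa = elt e.2 * elt e.1 * (elt e.2)⁻¹ := by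
      rw [this]
      unfold xa
      group
    rw [h2, hf]
  have hB : ∀ e ∈ tB, f (elt e.1) = f xb := by
    intro e he
    have h1 := List.all_eq_true.1 t_facts.2.2.2.2.2 e he
    simp only [Bool.and_eq_true] at h1
    have := elt_word_eq (ws := [e.2, e.1]) (ws' := [xbCode, e.2])
      (by simp [h1.1.1, h1.1.2]) (by simp [xb_aut, h1.1.2]) h1.2
    simp only [List.map_cons, List.map_nil, List.prod_cons, List.prod_nil, mul_one] at this
    have h2 : xb = elt e.2 * elt e.1 * (elt e.2)⁻¹ := by
      rw [this]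
      unfold xb
      group
    rw [h2, hf]
  unfold tList
  rw [List.map_cons, List.map_cons, List.sum_cons, List.map_append, List.map_append,
    List.sum_append, elt_idCode, List.map_map, List.map_map, List.map_map, List.map_map]
  have hsA : (tA.map ((f ∘ elt) ∘ Prod.fst)).sum = 14 * f xa := by
    rw [List.sum_eq_card_nsmul _ (f xa)]
    · rw [List.length_map, t_facts.2.2.1]
      simp
    · intro y hy
      obtain ⟨e, he, rfl⟩ := List.mem_map.1 hy
      exact hA e he
  have hsB : (tB.map ((f ∘ elt) ∘ Prod.fst)).sum = 12 * f xb := by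
    rw [List.sum_eq_card_nsmul _ (f xb)]
    · rw [List.length_map, t_facts.2.2.2.1]
      simp
    · intro y hy
      obtain ⟨e, he, rfl⟩ := List.mem_map.1 hy
      exact hB e he
  rw [hsA, hsB]
  ring

/-! ### Centralisers: common tools -/

/-- the centraliser of a coded element in `M24`, among all permutations -/
def cent0 (c : ℕ) : Subgroup (Equiv.Perm GolayPt) := M24 ⊓ Subgroup.centralizer {permC c}

theorem mem_cent0 {c : ℕ} {g : Equiv.Perm GolayPt} :
    g ∈ cent0 c ↔ g ∈ M24 ∧ g * permC c = permC c * g := by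
  unfold cent0
  rw [Subgroup.mem_inf, Subgroup.mem_centralizer_singleton_iff]

/-- the condition carried along a chain of stabilisers -/
def ChainCond (c i : ℕ) (H : Subgroup (Equiv.Perm GolayPt)) : Prop :=
  ∀ g ∈ H, g ∈ M24 ∧ g * permC c = permC c * g ∧ ∀ j < i, idxF g j = j

theorem chainCond_zero (c : ℕ) : ChainCond c 0 (cent0 c) := by
  intro g hg
  rw [mem_cent0] at hg
  exact ⟨hg.1, hg.2, fun j hj => absurd hj (Nat.not_lt_zero j)⟩

theorem chainCond_succ {c i : ℕ} (hi : i < 24) {H : Subgroup (Equiv.Perm GolayPt)}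
    (hH : ChainCond c i H) :
    ChainCond c (i + 1) (H ⊓ MulAction.stabilizer (Equiv.Perm GolayPt) (PP i)) := by
  intro g hg
  rw [Subgroup.mem_inf] at hg
  obtain ⟨h1, h2, h3⟩ := hH g hg.1
  refine ⟨h1, h2, fun j hj => ?_⟩
  rcases Nat.lt_succ_iff_lt_or_eq.1 hj with h | h
  · exact h3 j h
  · rw [h]
    exact idxF_fix hi hg.2

theorem idCode_act : ∀ i < 5, papp idCode i = i := by decide +kernel

theorem final_codes {c : ℕ} (hc : isPerm c = true) {g : Equiv.Perm GolayPt} (hgM : g ∈ M24)
    (hcomm : g * permC c = permC c * g) (hfix : ∀ j < 5, idxF g j = j) :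
    ∃ S ∈ H5list.filter (fun S => commF (papp S) (papp c)), g = permC S := by
  obtain ⟨S, hS, hgS⟩ := coset5 idCode_ok.1 hgM (fun i hi => by rw [hfix i hi, idCode_act i hi])
  rw [prodC_pair, permC_idCode, one_mul] at hgS
  refine ⟨S, ?_, hgS⟩
  rw [List.mem_filter]
  refine ⟨hS, ?_⟩
  have hSp := isPerm_of_isAutC (H5list_perm hS)
  apply comm_chk (a := g) (b := permC c) _ (ptIdx_permC hc) hcomm
  intro p
  rw [hgS]
  exact ptIdx_permC hSp p

/-! ### The centraliser of `xa` -/

/-- the indices of the fixed points of `xa` -/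
def fixA : List ℕ := [0, 1, 2, 3, 4, 9]

theorem fixA_chk : (List.range 5).all (fun i => (List.range 24).all (fun r =>
    !(Nat.beq (papp xaCode r) r) || (List.range i).any (Nat.beq r) ||
      (fixA.drop i).any (Nat.beq r))) = true := by decide +kernel

theorem fixA_ok : ∀ i < 5, ∀ r < 24, papp xaCode r = r → (∀ j < i, r ≠ j) → r ∈ fixA.drop i := by
  intro i hi r hr h1 h2
  have h := List.all_eq_true.1 (List.all_eq_true.1 fixA_chk i (List.mem_range.2 hi)) r
    (List.mem_range.2 hr)
  simp only [Bool.or_eq_true] at h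
  rcases h with (h | h) | h
  · rw [h1, Nat.beq_refl] at h
    exact absurd h (by simp)
  · obtain ⟨j, hj, hjr⟩ := List.any_eq_true.1 h
    exact absurd (Nat.eq_of_beq_eq_true hjr) (h2 j (List.mem_range.1 hj))
  · obtain ⟨j, hj, hjr⟩ := List.any_eq_true.1 h
    rw [Nat.eq_of_beq_eq_true hjr]
    exact hj

theorem xa_fix : ∀ i < 5, papp xaCode i = i := by decide +kernel

theorem stepA (H : Subgroup (Equiv.Perm GolayPt)) (i : ℕ) (hi : i < 5)
    (hH : ChainCond xaCode i H) :
    Nat.card H ≤ (6 - i) *
      Nat.card (H ⊓ MulAction.stabilizer (Equiv.Perm GolayPt) (PP i) : Subgroup _) := by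
  have := card_le_step H (PP i) (fixA.drop i) (by
    intro g hg
    obtain ⟨_, hc, hfix⟩ := hH g hg
    show idxF g i ∈ _
    apply fixA_ok i hi _ (idxF_lt g i)
    · have := idxF_comm xa_perm hc i (by omega)
      rw [xa_fix i hi] at this
      exact this.symm
    · intro j hj he
      have := idxF_inj g (a := i) (b := j) (by omega) (by omega) (by rw [he, hfix j hj])
      omega)
  rwa [List.length_drop] at this

theorem cA3_length : (H5list.filter (fun S => commF (papp S) (papp xaCode))).length = 3 := by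
  decide +kernel

theorem card_cent0_xa : Nat.card (cent0 xaCode) ≤ 2160 := by
  have c0 := chainCond_zero xaCode
  have c1 := chainCond_succ (by norm_num) c0
  have c2 := chainCond_succ (by norm_num) c1
  have c3 := chainCond_succ (by norm_num) c2
  have c4 := chainCond_succ (by norm_num) c3
  have c5 := chainCond_succ (by norm_num) c4
  have s0 := stepA _ 0 (by norm_num) c0
  have s1 := stepA _ 1 (by norm_num) c1
  have s2 := stepA _ 2 (by norm_num) c2
  have s3 := stepA _ 3 (by norm_num) c3
  have s4 := stepA _ 4 (by norm_num) c4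
  have s5 := card_le_of_codes _ _ (fun g hg => by
    obtain ⟨h1, h2, h3⟩ := c5 g hg
    exact final_codes xa_perm h1 h2 h3)
  rw [cA3_length] at s5
  simp only [zero_add, Nat.reduceAdd] at s0 s1 s2 s3 s4 s5
  omega

theorem card_centralizer_xa : Nat.card (Subgroup.centralizer ({xa} : Set ↥M24)) ≤ 2160 := by
  refine le_trans ?_ card_cent0_xa
  apply Nat.card_le_card_of_injective
    (fun g : Subgroup.centralizer ({xa} : Set ↥M24) =>
      (⟨((g : ↥M24) : Equiv.Perm GolayPt), mem_cent0.2 ⟨(g : ↥M24).2, by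
        have h1 := Subgroup.mem_centralizer_singleton_iff.1 g.2
        have h2 := congrArg (fun k : ↥M24 => (k : Equiv.Perm GolayPt)) h1
        simp only [Subgroup.coe_mul] at h2
        unfold xa at h2
        rwa [elt_val xa_aut] at h2⟩⟩ : cent0 xaCode))
  intro a b hab
  apply Subtype.ext
  apply Subtype.ext
  exact congrArg (fun k : cent0 xaCode => (k : Equiv.Perm GolayPt)) hab

/-! ### The centraliser of `xb` -/

/-- a coset of the stabiliser of five points without elements centralising `xb` -/
def entryOK (e : ℕ × ℕ) : Bool :=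
  isAutC e.2 && Nat.beq (papp e.2 0) 0 && Nat.beq (papp e.2 1) 1 && Nat.beq (papp e.2 2) 2 &&
    Nat.beq (papp e.2 3) e.1 && Nat.beq (papp e.2 4) (papp xbCode e.1) &&
    H5list.all (fun S => !(commF (pappL [e.2, S]) (papp xbCode)))

theorem tblB_ok : (List.range 24).all (fun r => Nat.blt r 3 || rList.any (Nat.beq r) ||
    badTable.any (fun e => Nat.beq e.1 r && entryOK e)) = true := by decide +kernel

theorem xb_act : papp xbCode 0 = 1 ∧ papp xbCode 1 = 2 ∧ papp xbCode 3 = 4 := by decide +kernel

theorem xb_chain {g : Equiv.Perm GolayPt} (hc : g * permC xbCode = permC xbCode * g)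
    (h0 : idxF g 0 = 0) :
    idxF g 1 = 1 ∧ idxF g 2 = 2 ∧ idxF g 4 = papp xbCode (idxF g 3) := by
  have hcomm := idxF_comm xb_perm hc
  have h1 : idxF g 1 = 1 := by
    have := hcomm 0 (by norm_num)
    rw [xb_act.1, h0, xb_act.1] at this
    exact this
  have h2 : idxF g 2 = 2 := by
    have := hcomm 1 (by norm_num)
    rw [xb_act.2.1, h1, xb_act.2.1] at this
    exact this
  have h4 : idxF g 4 = papp xbCode (idxF g 3) := by
    have := hcomm 3 (by norm_num)
    rw [xb_act.2.2] at this
    exact this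
  exact ⟨h1, h2, h4⟩

theorem stepB2 (H : Subgroup (Equiv.Perm GolayPt)) (hH : ChainCond xbCode 1 H) :
    ∀ g ∈ H, ((ptIdx (g (PP 3)) : Fin 24) : ℕ) ∈ rList := by
  intro g hg
  obtain ⟨hgM, hgc, hfix⟩ := hH g hg
  have h0 : idxF g 0 = 0 := hfix 0 (by norm_num)
  obtain ⟨h1, h2, h4⟩ := xb_chain hgc h0
  obtain ⟨r, hr⟩ : ∃ r, r = idxF g 3 := ⟨_, rfl⟩
  have hr24 : r < 24 := by
    rw [hr]
    exact idxF_lt g 3
  show idxF g 3 ∈ rList
  rw [← hr]
  have htab := List.all_eq_true.1 tblB_ok r (List.mem_range.2 hr24)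
  simp only [Bool.or_eq_true] at htab
  rcases htab with (hlt | hin) | hbad
  · exfalso
    have hr3 : r < 3 := Nat.le_of_ble_eq_true hlt
    have hrr : idxF g r = r := by
      have : r = 0 ∨ r = 1 ∨ r = 2 := by omega
      rcases this with rfl | rfl | rfl
      · exact h0
      · exact h1
      · exact h2
    have := idxF_inj g (a := 3) (b := r) (by norm_num) hr24 (by rw [hrr, ← hr])
    omega
  · obtain ⟨x, hx, hxr⟩ := List.any_eq_true.1 hin
    rw [Nat.eq_of_beq_eq_true hxr]
    exact hx
  · exfalso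
    obtain ⟨e, he, h⟩ := List.any_eq_true.1 hbad
    rw [Bool.and_eq_true] at h
    obtain ⟨her, hok⟩ := h
    have her' : e.1 = r := Nat.eq_of_beq_eq_true her
    unfold entryOK at hok
    simp only [Bool.and_eq_true] at hok
    obtain ⟨⟨⟨⟨⟨⟨ha, e0⟩, e1⟩, e2⟩, e3⟩, e4⟩, hall⟩ := hok
    have e0' := Nat.eq_of_beq_eq_true e0
    have e1' := Nat.eq_of_beq_eq_true e1
    have e2' := Nat.eq_of_beq_eq_true e2
    have e3' := Nat.eq_of_beq_eq_true e3
    have e4' := Nat.eq_of_beq_eq_true e4
    obtain ⟨S, hS, hgS⟩ := coset5 ha hgM (fun i hi => by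
      interval_cases i
      · rw [h0, e0']
      · rw [h1, e1']
      · rw [h2, e2']
      · rw [← hr, e3', her']
      · rw [h4, ← hr, e4', her'])
    have hSp := isPerm_of_isAutC (H5list_perm hS)
    have hcm : commF (pappL [e.2, S]) (papp xbCode) = true := by
      apply comm_chk (a := g) (b := permC xbCode) _ (ptIdx_permC xb_perm) hgc
      intro p
      rw [hgS]
      exact ptIdx_prodC _ (perm_pair (isPerm_of_isAutC ha) hSp) p
    have := List.all_eq_true.1 hall S hS
    rw [hcm] at this
    exact Bool.false_ne_true this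

theorem cB3_length : (H5list.filter (fun S => commF (papp S) (papp xbCode))).length = 3 := by
  decide +kernel

theorem rList_length : rList.length = 7 := by decide

theorem card_cent0_xb : Nat.card (cent0 xbCode) ≤ 504 := by
  have c0 := chainCond_zero xbCode
  have c1 := chainCond_succ (by norm_num) c0
  have s0 := card_le_step (cent0 xbCode) (PP 0) (List.range 24)
    (fun g _ => List.mem_range.2 (ptIdx _).isLt)
  have s1 := card_le_step _ (PP 3) rList (stepB2 _ c1)
  have s2 := card_le_of_codes
    (cent0 xbCode ⊓ MulAction.stabilizer (Equiv.Perm GolayPt) (PP 0) ⊓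
      MulAction.stabilizer (Equiv.Perm GolayPt) (PP 3))
    (H5list.filter (fun S => commF (papp S) (papp xbCode))) (fun g hg => by
    rw [Subgroup.mem_inf] at hg
    obtain ⟨h1, h2, h3⟩ := c1 g hg.1
    have h0 : idxF g 0 = 0 := h3 0 (by norm_num)
    obtain ⟨e1, e2, e4⟩ := xb_chain h2 h0
    have e3 : idxF g 3 = 3 := idxF_fix (by norm_num) hg.2
    refine final_codes xb_perm h1 h2 (fun j hj => ?_)
    interval_cases j
    · exact h0
    · exact e1
    · exact e2
    · exact e3
    · rw [e4, e3, xb_act.2.2])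
  rw [cB3_length] at s2
  rw [List.length_range] at s0
  rw [rList_length] at s1
  omega

theorem card_centralizer_xb : Nat.card (Subgroup.centralizer ({xb} : Set ↥M24)) ≤ 504 := by
  refine le_trans ?_ card_cent0_xb
  apply Nat.card_le_card_of_injective
    (fun g : Subgroup.centralizer ({xb} : Set ↥M24) =>
      (⟨((g : ↥M24) : Equiv.Perm GolayPt), mem_cent0.2 ⟨(g : ↥M24).2, by
        have h1 := Subgroup.mem_centralizer_singleton_iff.1 g.2
        have h2 := congrArg (fun k : ↥M24 => (k : Equiv.Perm GolayPt)) h1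
        simp only [Subgroup.coe_mul] at h2
        unfold xb at h2
        rwa [elt_val xb_aut] at h2⟩⟩ : cent0 xbCode))
  intro a b hab
  apply Subtype.ext
  apply Subtype.ext
  exact congrArg (fun k : cent0 xbCode => (k : Equiv.Perm GolayPt)) hab

/-! ### The main statement -/

theorem no_defect_zero_M24 (χ : Cfsg.IrrCharacter ↥Cfsg.M24) :
    ¬ 2 ^ (Nat.card ↥Cfsg.M24).factorization 2 ∣ Cfsg.charDegree (χ : ↥Cfsg.M24 → ℂ) := by
  intro hdiv
  rw [card_M24, Cfsg.Agent.Lib.Helper92.Blk24Gen.fact_two_244823040] at hdiv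
  have := Fintype.ofFinite ↥Cfsg.M24
  exact Cfsg.Agent.Lib.Helper92.Blk24Gen.no_defect_zero_24 card_M24 xa xb xa_pow xb_pow xa_ne xb_ne
    xa_conj xb_conj xa_xb_not_conj DA DB card_DA card_DB DA_comm DB_comm T card_T
    (fun f hf _ => T_sum f hf) card_centralizer_xa card_centralizer_xb χ hdiv

end Cfsg.Agent.Lib.Helper92.Blk24Zero
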