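import Cfsg.Agent.S5548
import Cfsg.Agent.Lib.Helper8.Golay

set_option autoImplicit false
open Cfsg

namespace Cfsg.Agent.Lib.Helper92.CodeAut

open Cfsg.Agent.Lib Cfsg.Agent.Lib.Helper26 Cfsg.Agent.Lib.Helper8
open Cfsg.Agent.S5548 (ind support₂_ind ind_support₂ ind_symmDiff ind_smul ind_dec ind_empty
  ind_univ sum_ind trans_lists trans_pair)
open scoped Pointwise

/-- the functional attached to a set of points. -/
def fS (S : Finset GolayPt) (c : GolayPt → ZMod 2) : ZMod 2 := dot₂ (ind S) c

theorem fS_eq_sum (S : Finset GolayPt) (c : GolayPt → ZMod 2) : fS S c = ∑ p ∈ S, c p := by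
  unfold fS dot₂ ind
  simp [Finset.sum_ite_mem]

theorem fS_symmDiff (S T : Finset GolayPt) (c : GolayPt → ZMod 2) :
    fS (symmDiff S T) c = fS S c + fS T c := by
  unfold fS
  rw [ind_symmDiff, dot₂_add_left]

theorem fS_empty (c : GolayPt → ZMod 2) : fS ∅ c = 0 := by
  rw [fS_eq_sum]; simp

theorem fS_pair {a b : GolayPt} (hab : a ≠ b) (c : GolayPt → ZMod 2) : fS {a, b} c = c a + c b := by
  rw [fS_eq_sum, Finset.sum_pair hab]

theorem fS_add (S : Finset GolayPt) (c d : GolayPt → ZMod 2) : fS S (c + d) = fS S c + fS S d := by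
  unfold fS; rw [dot₂_add_right]

theorem fS_one (S : Finset GolayPt) : fS S 1 = (S.card : ZMod 2) := by
  rw [fS_eq_sum]; simp

/-- action of a permutation on words. -/
def act (σ : Equiv.Perm GolayPt) (c : GolayPt → ZMod 2) : GolayPt → ZMod 2 := fun p => c (σ.symm p)

theorem fS_act (σ : Equiv.Perm GolayPt) (S : Finset GolayPt) (c : GolayPt → ZMod 2) :
    fS (σ • S) (act σ c) = fS S c := by
  rw [fS_eq_sum, fS_eq_sum]
  rw [show σ • S = S.map σ.toEmbedding from by
    ext p
    simp only [Finset.mem_smul_finset, Equiv.Perm.smul_def, Finset.mem_map,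
      Equiv.coe_toEmbedding]]
  rw [Finset.sum_map]
  simp [act]

theorem act_mem {σ : Equiv.Perm GolayPt} (hσ : σ ∈ M24) {c : GolayPt → ZMod 2}
    (hc : c ∈ golayCode) : act σ c ∈ golayCode := by
  have h := (Golay.mem_M24_iff_preservesCode σ⁻¹).mp (M24.inv_mem hσ)
  exact h c hc

theorem hammingNorm_eq (c : GolayPt → ZMod 2) : hammingNorm c = (support₂ c).card := rfl

theorem hammingNorm_act (σ : Equiv.Perm GolayPt) (c : GolayPt → ZMod 2) :
    hammingNorm (act σ c) = hammingNorm c := by
  rw [hammingNorm_eq, hammingNorm_eq]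
  show (support₂ (c ∘ σ.symm)).card = _
  rw [support₂_comp_symm', Finset.card_smul_finset]

theorem hammingNorm_add_one (c : GolayPt → ZMod 2) : hammingNorm (c + 1) = 24 - hammingNorm c := by
  rw [hammingNorm_eq, hammingNorm_eq, Helper26.support₂_add, support₂_one,
    Cfsg.Agent.S5548.symmDiff_univ', Finset.card_compl]
  rfl


/-! ### small sets are not orthogonal to the code -/

/-- for each of the four base points an octad meeting the base in that point only. -/
def sepOct (j : ℕ) : ℕ :=
  if j = 2 then 5210132 else if j = 1 then 4845570 else if j = 0 then 6053905 else 10170384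

theorem sepOct_spec : ∀ j ∈ [2, 1, 0, 23], sepOct j ∈ octL ∧ sepOct j &&& 8388615 = 2 ^ j := by
  decide +kernel

theorem dec_base4 : dec 8388615 = ([2, 1, 0, 23].map pt).toFinset := by
  decide +kernel

theorem mem_code_of_octL {o : ℕ} (ho : o ∈ octL) : ind (dec o) ∈ golayCode :=
  Cfsg.Agent.S5548.mem_golayCode_of_supports ((Helper26.mem_octads_iff _).mpr ⟨o, ho, rfl⟩).1

theorem fS_ind (S T : Finset GolayPt) : fS S (ind T) = ((S ∩ T).card : ZMod 2) := by
  rw [fS_eq_sum]
  simp [ind, Finset.sum_ite_mem]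

theorem small4_orth (T : Finset GolayPt) (hT : T.Nonempty) (h4 : T.card ≤ 4) :
    ∃ c ∈ golayCode, fS T c = 1 := by
  classical
  obtain ⟨T', hTT', hT'card⟩ := Finset.exists_superset_card_eq h4
    (show 4 ≤ Fintype.card GolayPt by
      have : Fintype.card GolayPt = 24 := rfl
      omega)
  obtain ⟨g, hg, hgT⟩ := exists_smul_eq_of_card isTransOn4 T' hT'card
  obtain ⟨p, hp⟩ := hT
  have hp' : g⁻¹ • p ∈ ([2, 1, 0, 23].map pt).toFinset := by
    rw [← inv_smul_smul g ([2, 1, 0, 23].map pt).toFinset, hgT]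
    exact Finset.smul_mem_smul_finset (hTT' hp)
  rw [List.mem_toFinset, List.mem_map] at hp'
  obtain ⟨j, hj, hjp⟩ := hp'
  obtain ⟨hoct, hand⟩ := sepOct_spec j hj
  have hj24 : j < 24 := by
    simp only [List.mem_cons, List.not_mem_nil, or_false] at hj
    rcases hj with rfl | rfl | rfl | rfl <;> norm_num
  refine ⟨act g (ind (dec (sepOct j))), act_mem hg (mem_code_of_octL hoct), ?_⟩
  have h1 : T = g • (g⁻¹ • T) := (smul_inv_smul g T).symm
  rw [h1, fS_act, fS_ind]
  have hsub : g⁻¹ • T ⊆ dec 8388615 := by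
    rw [dec_base4, ← inv_smul_smul g ([2, 1, 0, 23].map pt).toFinset, hgT]
    exact Finset.smul_finset_subset_smul_finset hTT'
  have hinter : g⁻¹ • T ∩ dec (sepOct j) = {pt j} := by
    ext q
    rw [Finset.mem_inter, Finset.mem_singleton]
    constructor
    · rintro ⟨hq1, hq2⟩
      have hq3 : q ∈ dec (sepOct j &&& 8388615) := by
        rw [dec_land, Finset.mem_inter]
        exact ⟨hq2, hsub hq1⟩
      rw [hand, dec_two_pow j hj24, Finset.mem_singleton] at hq3
      exact hq3
    · rintro rfl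
      refine ⟨?_, ?_⟩
      · rw [hjp]
        exact Finset.smul_mem_smul_finset hp
      · have : pt j ∈ dec (sepOct j &&& 8388615) := by
          rw [hand, dec_two_pow j hj24]
          exact Finset.mem_singleton_self _
        rw [dec_land, Finset.mem_inter] at this
        exact this.1
  rw [hinter, Finset.card_singleton]
  rfl

/-- a non-empty set of at most seven points is not orthogonal to the code. -/
theorem small_orth (T : Finset GolayPt) (hT : T.Nonempty) (h7 : T.card ≤ 7) :
    ∃ c ∈ golayCode, fS T c = 1 := by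
  classical
  by_contra hcon
  push Not at hcon
  have hzero : ∀ c ∈ golayCode, fS T c = 0 := by
    intro c hc
    rcases Cfsg.Agent.S5548.zmod2_cases' (fS T c) with h | h
    · exact h
    · exact absurd h (hcon c hc)
  obtain ⟨c0, hc0, e, hpc, hsum⟩ := Helper92.Cover.covering (ind T)
  have hcard : (dec e).card ≤ 4 := by rw [card_dec]; exact hpc
  have hz2 : ∀ c ∈ golayCode, fS (dec e) c = 0 := by
    intro c hc
    have h1 : ind (dec e) = ind T + c0 := by
      rw [ind_dec, hsum, add_comm c0, add_assoc, CharTwo.add_self_eq_zero, add_zero]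
    unfold fS
    rw [h1, dot₂_add_left, golay_orth hc0 hc, add_zero]
    exact hzero c hc
  have hempty : dec e = ∅ := by
    by_contra hne
    obtain ⟨c, hc, h1⟩ := small4_orth (dec e) (Finset.nonempty_iff_ne_empty.mpr hne) hcard
    rw [hz2 c hc] at h1
    exact zero_ne_one h1
  have hTC : ind T ∈ golayCode := by
    rw [hsum, ← ind_dec, hempty, ind_empty, add_zero]
    exact hc0
  have hw := Golay.hammingNorm_of_mem hTC
  rw [hammingNorm_eq, support₂_ind] at hw
  have hpos : 0 < T.card := Finset.card_pos.mpr hT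
  omega


/-! ### counting octad-type words in a hyperplane -/

/-- words of the code of weight 8 or 16 orthogonal to the set with mask `M`. -/
def hyp (M : ℕ) : Set (GolayPt → ZMod 2) :=
  {c | c ∈ golayCode ∧ (hammingNorm c = 8 ∨ hammingNorm c = 16) ∧ fS (dec M) c = 0}

def qM (M k : ℕ) : Bool :=
  (pc 24 (Golay.encode k) == 8 || pc 24 (Golay.encode k) == 16) &&
    (pc 24 (M &&& Golay.encode k) % 2 == 0)

theorem hammingNorm_ofMask' (m : ℕ) : hammingNorm (Golay.ofMask m) = pc 24 m := by
  rw [hammingNorm_eq, Helper26.support₂_ofMask, card_dec]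

theorem fS_dec_ofMask (M m : ℕ) : fS (dec M) (Golay.ofMask m) = ((pc 24 (M &&& m) : ℕ) : ZMod 2) := by
  rw [← ind_dec, fS_ind, ← dec_land, card_dec]

theorem hyp_eq (M : ℕ) : hyp M =
    ↑(((Finset.range 4096).filter (fun k => qM M k = true)).image
      (fun k => Golay.ofMask (Golay.encode k))) := by
  ext c
  simp only [hyp, Set.mem_ofPred_eq, Finset.coe_image, Finset.coe_filter, Finset.mem_range,
    Set.mem_image]
  constructor
  · rintro ⟨hc, hw, hf⟩
    obtain ⟨k, hk, rfl⟩ := (Golay.mem_golayCode_iff c).mp hc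
    refine ⟨k, ⟨hk, ?_⟩, rfl⟩
    rw [hammingNorm_ofMask'] at hw
    rw [fS_dec_ofMask, ZMod.natCast_eq_zero_iff_even, Nat.even_iff] at hf
    simp only [qM, Bool.and_eq_true, Bool.or_eq_true, beq_iff_eq]
    exact ⟨hw, hf⟩
  · rintro ⟨k, ⟨hk, hq⟩, rfl⟩
    simp only [qM, Bool.and_eq_true, Bool.or_eq_true, beq_iff_eq] at hq
    refine ⟨Golay.ofMask_encode_mem k, ?_, ?_⟩
    · rw [hammingNorm_ofMask']; exact hq.1
    · rw [fS_dec_ofMask, ZMod.natCast_eq_zero_iff_even, Nat.even_iff]; exact hq.2

theorem ncard_hyp (M : ℕ) :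
    (hyp M).ncard = ((Finset.range 4096).filter (fun k => qM M k = true)).card := by
  rw [hyp_eq, Set.ncard_coe_finset, Finset.card_image_of_injOn]
  intro a ha b hb h
  simp only [Finset.coe_filter, Finset.mem_range, Set.mem_ofPred_eq] at ha hb
  exact Golay.encode_injOn ha.1 hb.1
    (Golay.ofMask_injOn (Golay.encode_lt a) (Golay.encode_lt b) h)

theorem count2 : ((Finset.range 4096).filter (fun k => qM 8388609 k = true)).card = 814 := by
  decide +kernel

theorem count4 : ((Finset.range 4096).filter (fun k => qM 8388615 k = true)).card = 750 := by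
  decide +kernel

theorem no_injection (ψ : (GolayPt → ZMod 2) → (GolayPt → ZMod 2))
    (hinj : Set.InjOn ψ (hyp 8388609)) (hmap : ∀ c ∈ hyp 8388609, ψ c ∈ hyp 8388615) : False := by
  have h := Set.ncard_le_ncard_of_injOn ψ hmap hinj (Set.toFinite _)
  rw [ncard_hyp, ncard_hyp, count2, count4] at h
  omega


/-! ### functionals on the code -/

theorem exists_rep (g : ↥golayCode →ₗ[ZMod 2] ZMod 2) :
    ∃ e : GolayPt → ZMod 2, ∀ c : ↥golayCode, g c = dot₂ e (c : GolayPt → ZMod 2) := by
  classical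
  obtain ⟨G, hG⟩ := LinearMap.exists_extend g
  refine ⟨fun p => G (fun j => if p = j then 1 else 0), fun c => ?_⟩
  have h1 : g c = G (c : GolayPt → ZMod 2) := by
    rw [← hG]; rfl
  rw [h1, LinearMap.pi_apply_eq_sum_univ G (c : GolayPt → ZMod 2)]
  unfold dot₂
  apply Finset.sum_congr rfl
  intro p _
  rw [smul_eq_mul, mul_comm]

/-- the hypotheses on a linear automorphism of the code. -/
structure Good (x : ↥golayCode ≃ₗ[ZMod 2] ↥golayCode) : Prop where
  one : ∀ e : ↥golayCode, (e : GolayPt → ZMod 2) = (fun _ => (1 : ZMod 2)) → x e = e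
  orb : ∀ c : ↥golayCode, ∃ σ ∈ M24,
    ((x c : ↥golayCode) : GolayPt → ZMod 2) = act σ (c : GolayPt → ZMod 2) ∨
    ((x c : ↥golayCode) : GolayPt → ZMod 2) = act σ (c : GolayPt → ZMod 2) + fun _ => (1 : ZMod 2)

/-- the all-ones word as an element of the code. -/
def oneC : ↥golayCode := ⟨1, Golay.one_mem_golayCode⟩

theorem Good.weight {x : ↥golayCode ≃ₗ[ZMod 2] ↥golayCode} (hx : Good x) (c : ↥golayCode) :
    hammingNorm ((x c : ↥golayCode) : GolayPt → ZMod 2) = hammingNorm (c : GolayPt → ZMod 2) ∨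
    hammingNorm ((x c : ↥golayCode) : GolayPt → ZMod 2) =
      24 - hammingNorm (c : GolayPt → ZMod 2) := by
  obtain ⟨σ, _, h | h⟩ := hx.orb c
  · left; rw [h, hammingNorm_act]
  · right
    rw [h]
    have : (fun _ => (1 : ZMod 2)) = (1 : GolayPt → ZMod 2) := rfl
    rw [this, hammingNorm_add_one, hammingNorm_act]

/-- the element `act τ c` of the code. -/
def actC {τ : Equiv.Perm GolayPt} (hτ : τ ∈ M24) (c : ↥golayCode) : ↥golayCode :=
  ⟨act τ (c : GolayPt → ZMod 2), act_mem hτ c.2⟩

theorem act_injective (σ : Equiv.Perm GolayPt) : Function.Injective (act σ) := by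
  intro u v h
  funext p
  have := congrFun h (σ p)
  simpa [act] using this

theorem dec_pair : dec 8388609 = {pt 0, pt 23} := by decide +kernel

/-- **transport of pair functionals**: a pair functional composed with `x⁻¹` is a pair
functional. -/
theorem Good.pair {x : ↥golayCode ≃ₗ[ZMod 2] ↥golayCode} (hx : Good x) {a b : GolayPt}
    (hab : a ≠ b) : ∃ a' b' : GolayPt, a' ≠ b' ∧ ∀ c : ↥golayCode,
      (c : GolayPt → ZMod 2) a + (c : GolayPt → ZMod 2) b =
        ((x c : ↥golayCode) : GolayPt → ZMod 2) a' + ((x c : ↥golayCode) : GolayPt → ZMod 2) b' := by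
  classical
  -- the functional `c ↦ (x⁻¹ c) a + (x⁻¹ c) b`
  let ev : (GolayPt → ZMod 2) →ₗ[ZMod 2] ZMod 2 :=
    (LinearMap.proj a : (GolayPt → ZMod 2) →ₗ[ZMod 2] ZMod 2) +
      (LinearMap.proj b : (GolayPt → ZMod 2) →ₗ[ZMod 2] ZMod 2)
  let g : ↥golayCode →ₗ[ZMod 2] ZMod 2 := (ev.comp golayCode.subtype).comp x.symm.toLinearMap
  obtain ⟨e, he⟩ := exists_rep g
  obtain ⟨c0, hc0, e', hpc, hsum⟩ := Helper92.Cover.covering e
  set T := dec e' with hT
  have hTcard : T.card ≤ 4 := by rw [hT, card_dec]; exact hpc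
  have hkey : ∀ c : ↥golayCode, (c : GolayPt → ZMod 2) a + (c : GolayPt → ZMod 2) b =
      fS T ((x c : ↥golayCode) : GolayPt → ZMod 2) := by
    intro c
    have h1 := he (x c)
    have h2 : g (x c) = (c : GolayPt → ZMod 2) a + (c : GolayPt → ZMod 2) b := by
      show ev ((x.symm (x c) : ↥golayCode) : GolayPt → ZMod 2) = _
      rw [LinearEquiv.symm_apply_apply]
      rfl
    rw [← h2, h1, hsum, dot₂_add_left, golay_orth hc0 (x c).2, zero_add, ← ind_dec]
    rfl
  have hcases : T.card = 0 ∨ T.card = 1 ∨ T.card = 2 ∨ T.card = 3 ∨ T.card = 4 := by omega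
  have hodd : ¬ (T.card = 1 ∨ T.card = 3) := by
    intro h
    have h1 := hkey oneC
    have h2 : x oneC = oneC := hx.one oneC rfl
    rw [h2] at h1
    have h3 : ((oneC : ↥golayCode) : GolayPt → ZMod 2) = 1 := rfl
    rw [h3, fS_one] at h1
    simp only [Pi.one_apply] at h1
    rcases h with h | h <;> rw [h] at h1 <;> revert h1 <;> decide
  rcases hcases with h | h | h | h | h
  · exfalso
    rw [Finset.card_eq_zero] at h
    obtain ⟨c, hc, h1⟩ := small_orth {a, b} ⟨a, by simp⟩ (by
      rw [Finset.card_pair hab]; norm_num)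
    rw [fS_pair hab] at h1
    have h2 := hkey (x.symm ⟨c, hc⟩)
    rw [LinearEquiv.apply_symm_apply, h, fS_empty] at h2
    -- apply `hkey` to the preimage instead: use surjectivity of `x`
    have h3 := hkey ⟨c, hc⟩
    rw [h, fS_empty] at h3
    rw [h1] at h3
    exact one_ne_zero h3
  · exact absurd (Or.inl h) hodd
  · obtain ⟨a', b', hne, hTab⟩ := Finset.card_eq_two.mp h
    refine ⟨a', b', hne, fun c => ?_⟩
    rw [hkey c, hTab, fS_pair hne]
  · exact absurd (Or.inr h) hodd
  · exfalso
    obtain ⟨τ, hτ, hτa, hτb⟩ := trans_pair (a := pt 0) (b := pt 23) (a' := a) (b' := b)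
      (by decide) hab
    obtain ⟨σ, hσ, hσT⟩ := exists_smul_eq_of_card isTransOn4 T h
    have hσinv : σ⁻¹ ∈ M24 := M24.inv_mem hσ
    let ψ : (GolayPt → ZMod 2) → (GolayPt → ZMod 2) := fun v =>
      if hv : v ∈ golayCode then
        act σ⁻¹ ((x (actC hτ ⟨v, hv⟩) : ↥golayCode) : GolayPt → ZMod 2)
      else 0
    apply no_injection ψ
    · intro c1 hc1 c2 hc2 h12
      simp only [ψ, dif_pos hc1.1, dif_pos hc2.1] at h12
      have h1 := act_injective _ h12
      have h2 := x.injective (Subtype.ext h1)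
      have h3 := congrArg (fun z : ↥golayCode => (z : GolayPt → ZMod 2)) h2
      exact act_injective _ h3
    · intro c hc
      obtain ⟨hcC, hcw, hcf⟩ := hc
      simp only [ψ, dif_pos hcC]
      set c'' := actC hτ ⟨c, hcC⟩ with hc''
      refine ⟨act_mem hσinv (x c'').2, ?_, ?_⟩
      · rw [hammingNorm_act]
        have hw'' : hammingNorm (c'' : GolayPt → ZMod 2) = hammingNorm c := hammingNorm_act τ c
        rcases hx.weight c'' with hw | hw <;> rw [hw, hw''] <;> rcases hcw with h8 | h16 <;> omega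
      · have hT4 : dec 8388615 = σ⁻¹ • T := by
          rw [dec_base4, ← hσT, inv_smul_smul]
        rw [hT4, fS_act, ← hkey c'']
        show c (τ.symm a) + c (τ.symm b) = 0
        have ha' : τ.symm a = pt 0 := by rw [← hτa]; simp
        have hb' : τ.symm b = pt 23 := by rw [← hτb]; simp
        rw [ha', hb']
        rw [dec_pair, fS_pair (by decide)] at hcf
        exact hcf


/-! ### combinatorics of pairs -/

theorem card_symmDiff_add' (s t : Finset GolayPt) :
    (symmDiff s t).card + 2 * (s ∩ t).card = s.card + t.card := by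
  have e1 : (symmDiff s t).card = (s \ t).card + (t \ s).card := by
    rw [symmDiff_def, Finset.sup_eq_union, Finset.card_union_of_disjoint]
    exact disjoint_sdiff_sdiff
  have e2 : (s \ t).card + (s ∩ t).card = s.card := Finset.card_sdiff_add_card_inter s t
  have e3 : (t \ s).card + (t ∩ s).card = t.card := Finset.card_sdiff_add_card_inter t s
  rw [Finset.inter_comm t s] at e3
  omega

theorem common_point {A B D : Finset GolayPt} (hA : A.card = 2) (hB : B.card = 2)
    (hD : D.card = 2) (hAB : (symmDiff A B).card = 2) (hAD : (symmDiff A D).card = 2)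
    (hBD : (symmDiff B D).card = 2) (hne : D ≠ symmDiff A B) {p : GolayPt} (hpA : p ∈ A)
    (hpB : p ∈ B) : p ∈ D := by
  classical
  by_contra hpD
  have iAB : (A ∩ B).card = 1 := by have := card_symmDiff_add' A B; omega
  have iAD : (A ∩ D).card = 1 := by have := card_symmDiff_add' A D; omega
  have iBD : (B ∩ D).card = 1 := by have := card_symmDiff_add' B D; omega
  obtain ⟨q0, hq0⟩ := Finset.card_eq_one.mp iAD
  obtain ⟨q1, hq1⟩ := Finset.card_eq_one.mp iBD
  have hq0A : q0 ∈ A ∧ q0 ∈ D := by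
    have : q0 ∈ A ∩ D := by rw [hq0]; exact Finset.mem_singleton_self _
    exact Finset.mem_inter.mp this
  have hq1B : q1 ∈ B ∧ q1 ∈ D := by
    have : q1 ∈ B ∩ D := by rw [hq1]; exact Finset.mem_singleton_self _
    exact Finset.mem_inter.mp this
  have hpq0 : p ≠ q0 := fun h => hpD (h ▸ hq0A.2)
  have hpq1 : p ≠ q1 := fun h => hpD (h ▸ hq1B.2)
  have hq01 : q0 ≠ q1 := by
    intro h
    have h1 : ({p, q0} : Finset GolayPt) ⊆ A ∩ B := by
      intro z hz
      rw [Finset.mem_insert, Finset.mem_singleton] at hz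
      rcases hz with rfl | rfl
      · exact Finset.mem_inter.mpr ⟨hpA, hpB⟩
      · exact Finset.mem_inter.mpr ⟨hq0A.1, h ▸ hq1B.1⟩
    have := Finset.card_le_card h1
    rw [Finset.card_pair hpq0, iAB] at this
    omega
  have hAeq : ({p, q0} : Finset GolayPt) = A :=
    Finset.eq_of_subset_of_card_le (by
      intro z hz
      rw [Finset.mem_insert, Finset.mem_singleton] at hz
      rcases hz with rfl | rfl
      · exact hpA
      · exact hq0A.1) (by rw [Finset.card_pair hpq0, hA])
  have hBeq : ({p, q1} : Finset GolayPt) = B :=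
    Finset.eq_of_subset_of_card_le (by
      intro z hz
      rw [Finset.mem_insert, Finset.mem_singleton] at hz
      rcases hz with rfl | rfl
      · exact hpB
      · exact hq1B.1) (by rw [Finset.card_pair hpq1, hB])
  have hDeq : ({q0, q1} : Finset GolayPt) = D :=
    Finset.eq_of_subset_of_card_le (by
      intro z hz
      rw [Finset.mem_insert, Finset.mem_singleton] at hz
      rcases hz with rfl | rfl
      · exact hq0A.2
      · exact hq1B.2) (by rw [Finset.card_pair hq01, hD])
  apply hne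
  rw [← hAeq, ← hBeq, ← hDeq]
  ext z
  simp only [Finset.mem_symmDiff, Finset.mem_insert, Finset.mem_singleton]
  constructor
  · rintro (rfl | rfl)
    · left; exact ⟨Or.inr rfl, fun h => h.elim (fun h => hpq0 h.symm) (fun h => hq01 h)⟩
    · right; exact ⟨Or.inr rfl, fun h => h.elim (fun h => hpq1 h.symm) (fun h => hq01 h.symm)⟩
  · rintro (⟨h1 | h1, h2⟩ | ⟨h1 | h1, h2⟩)
    · exact absurd (Or.inl h1) h2
    · exact Or.inl h1
    · exact absurd (Or.inl h1) h2
    · exact Or.inr h1

/-! ### the relation between pair functionals -/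

/-- `f_{a,b} = f_D ∘ x` on the code. -/
def RelS (x : ↥golayCode ≃ₗ[ZMod 2] ↥golayCode) (a b : GolayPt) (D : Finset GolayPt) : Prop :=
  ∀ c : ↥golayCode, (c : GolayPt → ZMod 2) a + (c : GolayPt → ZMod 2) b =
    fS D ((x c : ↥golayCode) : GolayPt → ZMod 2)

theorem eq_empty_of_orth {T : Finset GolayPt} (h7 : T.card ≤ 7)
    (h : ∀ c ∈ golayCode, fS T c = 0) : T = ∅ := by
  by_contra hne
  obtain ⟨c, hc, h1⟩ := small_orth T (Finset.nonempty_iff_ne_empty.mpr hne) h7
  rw [h c hc] at h1
  exact zero_ne_one h1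

theorem Good.exists_relS {x : ↥golayCode ≃ₗ[ZMod 2] ↥golayCode} (hx : Good x) {a b : GolayPt}
    (hab : a ≠ b) : ∃ D : Finset GolayPt, D.card = 2 ∧ RelS x a b D := by
  obtain ⟨a', b', hne, h⟩ := hx.pair hab
  refine ⟨{a', b'}, Finset.card_pair hne, fun c => ?_⟩
  rw [fS_pair hne]
  exact h c

/-- additivity: the images of `f_{ab}`, `f_{bc}`, `f_{ac}`. -/
theorem relS_add {x : ↥golayCode ≃ₗ[ZMod 2] ↥golayCode} {a b c : GolayPt}
    {A B D : Finset GolayPt} (hA : A.card = 2) (hB : B.card = 2) (hD : D.card = 2)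
    (h1 : RelS x a b A) (h2 : RelS x b c B) (h3 : RelS x a c D) : D = symmDiff A B := by
  have hz : ∀ v ∈ golayCode, fS (symmDiff D (symmDiff A B)) v = 0 := by
    intro v hv
    obtain ⟨w, rfl⟩ : ∃ w : ↥golayCode, ((x w : ↥golayCode) : GolayPt → ZMod 2) = v :=
      ⟨x.symm ⟨v, hv⟩, by rw [LinearEquiv.apply_symm_apply]⟩
    rw [fS_symmDiff, fS_symmDiff, ← h1 w, ← h2 w, ← h3 w]
    have : ∀ s t u : ZMod 2, s + u + (s + t + (t + u)) = 0 := by decide
    exact this _ _ _
  have hcard : (symmDiff D (symmDiff A B)).card ≤ 7 := by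
    have e1 := card_symmDiff_add' D (symmDiff A B)
    have e2 := card_symmDiff_add' A B
    omega
  have := eq_empty_of_orth hcard hz
  rwa [← Finset.bot_eq_empty, symmDiff_eq_bot] at this

/-- uniqueness of the source pair. -/
theorem relS_source {x : ↥golayCode ≃ₗ[ZMod 2] ↥golayCode} {a b a' b' : GolayPt}
    {D : Finset GolayPt} (hab : a ≠ b) (hab' : a' ≠ b') (h1 : RelS x a b D)
    (h2 : RelS x a' b' D) : ({a, b} : Finset GolayPt) = {a', b'} := by
  have hz : ∀ v ∈ golayCode, fS (symmDiff ({a, b} : Finset GolayPt) {a', b'}) v = 0 := by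
    intro v hv
    rw [fS_symmDiff, fS_pair hab, fS_pair hab']
    have e1 := h1 ⟨v, hv⟩
    have e2 := h2 ⟨v, hv⟩
    simp only at e1 e2
    rw [e1, e2]
    exact CharTwo.add_self_eq_zero _
  have hcard : (symmDiff ({a, b} : Finset GolayPt) {a', b'}).card ≤ 7 := by
    have e1 := card_symmDiff_add' ({a, b} : Finset GolayPt) {a', b'}
    rw [Finset.card_pair hab, Finset.card_pair hab'] at e1
    omega
  have := eq_empty_of_orth hcard hz
  rwa [← Finset.bot_eq_empty, symmDiff_eq_bot] at this

end Cfsg.Agent.Lib.Helper92.CodeAut
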