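import Cfsg.Agent.Lib.Helper26.OctadMeet
import Cfsg.Agent.Lib.Golay.Octads

set_option autoImplicit false
open Cfsg

namespace Cfsg.Agent.Lib.Helper92.Cosets

open Cfsg.Agent.Lib Cfsg.Agent.Lib.Helper26
open scoped Pointwise

abbrev Supp : Set (Finset GolayPt) := supports (golayCode : Set (GolayPt → ZMod 2))

/-- the statement for a fixed support `U` -/
def GoodSet (U : Finset GolayPt) : Prop :=
  ∀ Wt : Finset GolayPt, Wt ∉ Supp → ∃ σ ∈ M24, σ • U = U ∧ symmDiff (σ • Wt) Wt ∉ Supp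

def bad (g : PermData) (r : ℕ) : Bool :=
  Golay.encode ((g.applyMask r ^^^ r) % 4096) != (g.applyMask r ^^^ r)

def certOK (c₀ : ℕ) (g1 g2 : PermData) : Bool :=
  g1.inM24 && g2.inM24 && (g1.applyMask c₀ == c₀) && (g2.applyMask c₀ == c₀) &&
    (List.range 4095).all (fun t => bad g1 ((t + 1) * 4096) || bad g2 ((t + 1) * 4096))

theorem smul_symmDiff (σ : Equiv.Perm GolayPt) (a b : Finset GolayPt) :
    σ • symmDiff a b = symmDiff (σ • a) (σ • b) := by
  ext p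
  simp only [Finset.mem_symmDiff, ← Finset.inv_smul_mem_iff]

theorem sd4 {α : Type*} [DecidableEq α] (A B R E : Finset α) :
    symmDiff (symmDiff (symmDiff A B) (symmDiff R E)) (symmDiff B E) = symmDiff A R := by
  ext p
  simp only [Finset.mem_symmDiff]
  tauto

theorem bad_spec (g : PermData) (hg : g.inM24 = true) (r : ℕ) (hr : r < 2 ^ 24) (hb : bad g r = true) :
    symmDiff (g.toPerm • dec r) (dec r) ∉ Supp := by
  have hok := PermData.ok_of_inM24 hg
  rw [PermData.smul_dec hok, ← dec_xor]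
  rw [dec_mem_supports_iff _ (Nat.xor_lt_two_pow (PermData.applyMask_lt hok r) hr)]
  simpa [bad] using hb

theorem std (c₀ : ℕ) (g1 g2 : PermData) (h : certOK c₀ g1 g2 = true) : GoodSet (dec c₀) := by
  simp only [certOK, Bool.and_eq_true, beq_iff_eq, List.all_eq_true, List.mem_range, Bool.or_eq_true] at h
  obtain ⟨⟨⟨⟨h1, h2⟩, h3⟩, h4⟩, h5⟩ := h
  intro Wt hWt
  set m := enc Wt with hm
  have hmlt : m < 2 ^ 24 := enc_lt Wt
  have hWm : Wt = dec m := (dec_enc Wt).symm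
  rw [hWm, dec_mem_supports_iff m hmlt] at hWt
  set e := Golay.encode (m % 4096) with he
  have helt : e < 2 ^ 24 := Golay.encode_lt _
  set r := m ^^^ e with hr
  have hrlt : r < 2 ^ 24 := Nat.xor_lt_two_pow hmlt helt
  have hrmod : r % 4096 = 0 := by
    have h4096 : (4096 : ℕ) = 2 ^ 12 := by norm_num
    rw [hr, h4096, Nat.xor_mod_two_pow, ← h4096, he,
      Golay.encode_mod (m % 4096) (Nat.mod_lt _ (by norm_num)), Nat.xor_self]
  have hr0 : r ≠ 0 := by
    intro h0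
    apply hWt
    have : m = e := by
      have := Nat.xor_eq_zero_iff.mp (hr ▸ h0)
      exact this
    exact this.symm
  have hrt : (r / 4096 - 1 + 1) * 4096 = r := by omega
  have ht : r / 4096 - 1 < 4095 := by
    have : (2 : ℕ) ^ 24 = 4096 * 4096 := by norm_num
    omega
  have hmre : dec m = symmDiff (dec r) (dec e) := by
    rw [← dec_xor, hr, Nat.xor_assoc, Nat.xor_self, Nat.xor_zero]
  have heS : dec e ∈ Supp := by
    rw [dec_mem_supports_iff e helt, he, Golay.encode_mod (m % 4096) (Nat.mod_lt _ (by norm_num))]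
  have key : ∀ g : PermData, g.inM24 = true → g.applyMask c₀ = c₀ → bad g r = true →
      ∃ σ ∈ M24, σ • dec c₀ = dec c₀ ∧ symmDiff (σ • Wt) Wt ∉ Supp := by
    intro g hg hgc hb
    have hok := PermData.ok_of_inM24 hg
    have hσ : g.toPerm ∈ M24 := PermData.toPerm_mem_M24 hg
    refine ⟨g.toPerm, hσ, ?_, ?_⟩
    · rw [PermData.smul_dec hok, hgc]
    · intro hcon
      apply bad_spec g hg r hrlt hb
      rw [hWm, hmre, smul_symmDiff] at hcon
      have h2 : symmDiff (g.toPerm • dec e) (dec e) ∈ Supp :=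
        supports_symmDiff ((smul_mem_supports_iff hσ _).mpr heS) heS
      have h3 := supports_symmDiff hcon h2
      have h4 := sd4 (g.toPerm • dec r) (g.toPerm • dec e) (dec r) (dec e)
      rw [h4] at h3
      exact h3
  have hbb := h5 (r / 4096 - 1) ht
  rw [hrt] at hbb
  rcases hbb with hb | hb
  · exact key g1 h1 h3 hb
  · exact key g2 h2 h4 hb

theorem transport (U₀ : Finset GolayPt) (h : GoodSet U₀) (τ : Equiv.Perm GolayPt) (hτ : τ ∈ M24) :
    GoodSet (τ • U₀) := by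
  intro Wt hWt
  have hτi : τ⁻¹ ∈ M24 := M24.inv_mem hτ
  have hW0 : τ⁻¹ • Wt ∉ Supp := fun hc => hWt ((smul_mem_supports_iff hτi Wt).mp hc)
  obtain ⟨σ₀, hσ₀, hfix, hbad⟩ := h (τ⁻¹ • Wt) hW0
  refine ⟨τ * σ₀ * τ⁻¹, M24.mul_mem (M24.mul_mem hτ hσ₀) hτi, ?_, ?_⟩
  · rw [mul_smul, mul_smul, inv_smul_smul, hfix]
  · intro hcon
    apply hbad
    have e1 : symmDiff ((τ * σ₀ * τ⁻¹) • Wt) Wt = τ • symmDiff (σ₀ • (τ⁻¹ • Wt)) (τ⁻¹ • Wt) := by
      rw [smul_symmDiff, smul_inv_smul, mul_smul, mul_smul]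
    rw [e1] at hcon
    exact (smul_mem_supports_iff hτ _).mp hcon

def gA1 : PermData := ⟨[16, 5, 7, 19, 10, 11, 8, 13, 1, 9, 20, 21, 14, 4, 17, 6, 18, 12, 23, 15, 3, 2, 0, 22], [22, 8, 21, 20, 13, 1, 15, 2, 6, 9, 4, 5, 17, 7, 12, 19, 0, 14, 16, 3, 10, 11, 23, 18]⟩
def gA2 : PermData := ⟨[12, 2, 11, 8, 3, 1, 6, 9, 13, 20, 7, 5, 16, 4, 18, 19, 17, 0, 14, 15, 10, 21, 22, 23], [17, 5, 1, 4, 13, 11, 6, 10, 3, 7, 20, 2, 0, 8, 18, 19, 12, 16, 14, 15, 9, 21, 22, 23]⟩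
def gB1 : PermData := ⟨[19, 5, 20, 18, 6, 10, 13, 9, 17, 1, 8, 11, 14, 7, 15, 16, 0, 23, 2, 3, 22, 21, 12, 4], [16, 9, 18, 19, 23, 1, 4, 13, 10, 7, 5, 11, 22, 6, 12, 14, 15, 8, 3, 0, 2, 21, 20, 17]⟩
def gB2 : PermData := ⟨[22, 8, 3, 21, 5, 10, 1, 7, 6, 13, 4, 9, 12, 11, 14, 19, 0, 17, 18, 20, 15, 2, 16, 23], [16, 6, 21, 2, 10, 4, 8, 7, 1, 11, 5, 13, 12, 9, 14, 20, 22, 17, 18, 15, 19, 3, 0, 23]⟩

theorem cert_zero : certOK 0 gTr gPinv = true := by decide +kernel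
theorem cert_all : certOK 16777215 gTr gPinv = true := by decide +kernel
theorem cert_oct : certOK oct0 gA1 gA2 = true := by decide +kernel
theorem cert_coct : certOK (oct0 ^^^ 16777215) gA1 gA2 = true := by decide +kernel
theorem cert_dod : certOK dod0 gB1 gB2 = true := by decide +kernel


end Cfsg.Agent.Lib.Helper92.Cosets
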