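import Cfsg.Agent.Lib.Helper92.M23GenP0
import Cfsg.Agent.Lib.Helper92.M23GenP1
import Cfsg.Agent.Lib.Helper92.M23GenP2
import Cfsg.Agent.Lib.Helper92.M23GenP3

set_option autoImplicit false
set_option maxRecDepth 1000000
open Cfsg

namespace Cfsg.Agent.Lib.Helper92.M23Gen

open Cfsg.Agent.Lib.Helper93.Golay
open Cfsg.Agent.Lib.Helper92.M22Aut (V2 V3 V4)
open Cfsg.Agent.Lib.Helper92.M23Aut (V1 trip1)

theorem allP : V1z.all (fun p1 => V2z.all (fun p2 => chunkP p1.1 p1.2 p2.1 p2.2)) = true := by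
  unfold V1z
  simp only [List.all_cons, List.all_nil, Bool.and_true, Bool.and_eq_true]
  exact ⟨cP_0, cP_1, cP_2, cP_3, cP_4, cP_5, cP_6, cP_7, cP_8, cP_9, cP_10, cP_11, cP_12, cP_13, cP_14, cP_15, cP_16, cP_17, cP_18, cP_19, cP_20, cP_21, cP_22⟩

end Cfsg.Agent.Lib.Helper92.M23Gen
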