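import Cfsg.Agent.Lib.Helper92.M23AutData
import Cfsg.Agent.S2062

set_option autoImplicit false
set_option maxRecDepth 1000000
open scoped Pointwise
open Cfsg

/-! Tools for the point stabiliser `Hfix 1` of `M24` (a copy of the Mathieu group of degree 23):
enumeration of its involutions by base change, the standard generators, and the isomorphism with
`Cfsg.Spor.M23`. -/

namespace Cfsg.Agent.Lib.Helper92.M23Tools

open Cfsg.Agent.Lib.Helper93.Golay
open Cfsg.Agent.S5522 (ptIdx_inj)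
open Cfsg.Agent.S1602 (inv_self self_inv)
open Cfsg.Agent.S1603 (permC_ext permC_mul_eq)
open Cfsg.Agent.S2060 (IdxFun compOK)
open Cfsg.Agent.S2062 (mem_Kf enumF P_of_papp mem_of_okL card_Out_congr P0_eq P23_eq)
open Cfsg.Agent.Lib.Helper92.M22Aut (okL covL V2 V3 V4 V3_ok V3_cov V4_ok V4_cov)
open Cfsg.Agent.Lib.Helper92.M23Aut

/-! ### the point stabiliser -/

theorem fset1_cases : ∀ p : GolayPt, p ∈ fset 1 → p = P 0 := by decide
theorem fset7_cases : ∀ p : GolayPt, p ∈ fset 7 → p = P 0 ∨ p = P 1 ∨ p = P 2 := by decide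

theorem mem_K1 (g : Equiv.Perm GolayPt) : g ∈ Hfix 1 ↔ g ∈ M24 ∧ g (P 0) = P 0 := by
  rw [mem_Hfix]
  constructor
  · rintro ⟨h1, h2⟩
    exact ⟨h1, h2 _ ((mem_fset_P 1 0 (by decide)).2 (by decide))⟩
  · rintro ⟨h1, h2⟩
    refine ⟨h1, fun p hp => ?_⟩
    rw [fset1_cases p hp]
    exact h2

theorem mem_K7 (g : Equiv.Perm GolayPt) :
    g ∈ Hfix 7 ↔ g ∈ M24 ∧ g (P 0) = P 0 ∧ g (P 1) = P 1 ∧ g (P 2) = P 2 := by
  rw [mem_Hfix]
  constructor
  · rintro ⟨h1, h2⟩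
    exact ⟨h1, h2 _ ((mem_fset_P 7 0 (by decide)).2 (by decide)),
      h2 _ ((mem_fset_P 7 1 (by decide)).2 (by decide)),
      h2 _ ((mem_fset_P 7 2 (by decide)).2 (by decide))⟩
  · rintro ⟨h1, h2, h3, h4⟩
    refine ⟨h1, fun p hp => ?_⟩
    rcases fset7_cases p hp with rfl | rfl | rfl
    · exact h2
    · exact h3
    · exact h4

theorem inv_app {f : Equiv.Perm GolayPt} {x y : GolayPt} (h : f x = y) : f⁻¹ y = x := by
  rw [← h, inv_self]

/-- enumeration of the three-point stabiliser -/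
theorem enum7 {g : Equiv.Perm GolayPt} (hg : g ∈ Hfix 7) :
    ∃ S3 ∈ V3, ∃ S4 ∈ V4, ∃ h ∈ H5list,
      isPerm S3 = true ∧ isPerm S4 = true ∧ isPerm h = true ∧
      g = permC S3 * (permC S4 * permC h) := by
  obtain ⟨S3, hS3, hA3, h3⟩ := Cfsg.Agent.S5394.stepH 3 (by norm_num) V3 7 V3_ok V3_cov
    (by decide) hg
  have h3' : (permC S3)⁻¹ * g ∈ Hfix 15 := h3
  obtain ⟨S4, hS4, hA4, h4⟩ := Cfsg.Agent.S5394.stepH 4 (by norm_num) V4 15 V4_ok V4_cov
    (by decide) h3'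
  have h4' : (permC S4)⁻¹ * ((permC S3)⁻¹ * g) ∈ Hfix 31 := h4
  obtain ⟨h, hh, hgh⟩ := H5_complete h4'
  have hHok := List.all_eq_true.1 H5_ok h hh
  rw [Bool.and_eq_true] at hHok
  refine ⟨S3, hS3, S4, hS4, h, hh, isPerm_of_isAutC hA3, isPerm_of_isAutC hA4,
    isPerm_of_isAutC hHok.1, ?_⟩
  rw [← hgh]; group

/-- the shape of an involution of the point stabiliser -/
theorem invol_cases {g : Equiv.Perm GolayPt} (hg : g ∈ Hfix 1) (h2 : g * g = 1) :
    (∃ tr ∈ trip1, ∃ S3 ∈ V3, ∃ S4 ∈ V4, ∃ h ∈ H5list,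
      IdxFun g (fun t => papp tr.1 (papp tr.2.1 (papp S3 (papp S4 (papp h (papp tr.2.2 t))))))) ∨
    (∃ S2 ∈ V2, ∃ S3 ∈ V3, ∃ S4 ∈ V4, ∃ h ∈ H5list,
      IdxFun g (fun t => papp S2 (papp S3 (papp S4 (papp h t))))) := by
  obtain ⟨hgM, hg0⟩ := (mem_K1 g).1 hg
  by_cases h1 : g (P 1) = P 1
  · right
    exact enumF ((mem_Kf g).2 ⟨hgM, hg0, h1⟩)
  left
  have hgg : ∀ x, g (g x) = x := fun x => by
    have := congrArg (fun σ : Equiv.Perm GolayPt => σ x) h2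
    simpa using this
  -- the image of the second base point
  have hj24 := (ptIdx (g (P 1))).isLt
  have hj0 : ((ptIdx (g (P 1)) : Fin 24) : ℕ) ≠ 0 := by
    intro h0
    have e : g (P 1) = P 0 := by apply ptIdx_inj; rw [ptIdx_P]; exact h0
    rw [← hg0] at e
    exact Cfsg.Agent.S2062.P01_ne (g.injective e).symm
  have hj1 : ((ptIdx (g (P 1)) : Fin 24) : ℕ) ≠ 1 := by
    intro h0
    apply h1
    apply ptIdx_inj; rw [ptIdx_P]; exact h0
  have hcov := List.all_eq_true.1 trip_cov _ (List.mem_range.2 hj24)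
  simp only [Bool.or_eq_true, List.any_eq_true] at hcov
  rcases hcov with (hc | hc) | hc
  · exact absurd (Nat.eq_of_beq_eq_true hc) hj0
  · exact absurd (Nat.eq_of_beq_eq_true hc) hj1
  obtain ⟨tr, htr, htrj⟩ := hc
  have hok := List.all_eq_true.1 trip_ok tr htr
  simp only [Bool.and_eq_true] at hok
  obtain ⟨⟨⟨⟨⟨⟨⟨hAS, hFS⟩, hAc⟩, hFc⟩, hAj⟩, hFj⟩, hr1⟩, hr2⟩ := hok
  have hPS := isPerm_of_isAutC hAS
  have hPc := isPerm_of_isAutC hAc
  have hPj := isPerm_of_isAutC hAj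
  obtain ⟨hSM, hS0⟩ := (mem_K1 _).1 (permC_mem_Hfix hAS hFS)
  obtain ⟨hcM, hc0, hc1⟩ := (mem_Kf _).1 (permC_mem_Hfix hAc hFc)
  obtain ⟨hjM, hj0', hj1'⟩ := (mem_Kf _).1 (permC_mem_Hfix hAj hFj)
  -- key point relations
  have eS1 : permC tr.1 (P 1) = g (P 1) := by
    apply ptIdx_inj
    rw [ptIdx_permC hPS, ptIdx_P]
    exact Nat.eq_of_beq_eq_true htrj
  have ec2 : permC tr.1 (permC tr.2.1 (P 2)) = P 1 := by
    apply ptIdx_inj
    rw [ptIdx_permC hPS, ptIdx_permC hPc, ptIdx_P, ptIdx_P]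
    exact Nat.eq_of_beq_eq_true hr1
  have ej2 : permC tr.2.2 (g (P 1)) = P 2 := by
    rw [← eS1]
    apply ptIdx_inj
    rw [ptIdx_permC hPj, ptIdx_permC hPS, ptIdx_P, ptIdx_P]
    exact Nat.eq_of_beq_eq_true hr2
  -- the residual element
  have hw : (permC tr.2.1)⁻¹ * (permC tr.1)⁻¹ * g * (permC tr.2.2)⁻¹ ∈ Hfix 7 := by
    rw [mem_K7]
    refine ⟨M24.mul_mem (M24.mul_mem (M24.mul_mem (M24.inv_mem hcM) (M24.inv_mem hSM)) hgM)
      (M24.inv_mem hjM), ?_, ?_, ?_⟩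
    · simp only [Equiv.Perm.mul_apply]
      rw [inv_app hj0', hg0, inv_app hS0, inv_app hc0]
    · simp only [Equiv.Perm.mul_apply]
      rw [inv_app hj1', inv_app eS1, inv_app hc1]
    · simp only [Equiv.Perm.mul_apply]
      rw [inv_app ej2, hgg, inv_app ec2, inv_self]
  obtain ⟨S3, hS3, S4, hS4, h, hh, hP3, hP4, hPh, hweq⟩ := enum7 hw
  refine ⟨tr, htr, S3, hS3, S4, hS4, h, hh, ?_⟩
  have hgeq : g = permC tr.1 * (permC tr.2.1 * (permC S3 * (permC S4 * (permC h *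
      permC tr.2.2)))) := by
    have : g = permC tr.1 * (permC tr.2.1 * ((permC tr.2.1)⁻¹ * (permC tr.1)⁻¹ * g *
      (permC tr.2.2)⁻¹) * permC tr.2.2) := by group
    rw [this, hweq]; group
  rw [hgeq]
  exact (IdxFun.permC hPS).mul ((IdxFun.permC hPc).mul ((IdxFun.permC hP3).mul
    ((IdxFun.permC hP4).mul ((IdxFun.permC hPh).mul (IdxFun.permC hPj)))))

/-! ### the generators -/

theorem ac_mem : isAutC ac = true ∧ permC ac ∈ Hfix 1 := mem_of_okL gens_ok (by simp)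
theorem bc_mem : isAutC bc = true ∧ permC bc ∈ Hfix 1 := mem_of_okL gens_ok (by simp)
theorem aic_mem : isAutC aic = true ∧ permC aic ∈ Hfix 1 := mem_of_okL gens_ok (by simp)
theorem ac_perm : isPerm ac = true := isPerm_of_isAutC ac_mem.1
theorem bc_perm : isPerm bc = true := isPerm_of_isAutC bc_mem.1
theorem aic_perm : isPerm aic = true := isPerm_of_isAutC aic_mem.1

def aG : ↥(Hfix 1) := ⟨permC ac, ac_mem.2⟩
def bG : ↥(Hfix 1) := ⟨permC bc, bc_mem.2⟩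

theorem ha_idx : IdxFun (permC ac) (papp ac) := IdxFun.permC ac_perm

theorem aic_eq : permC aic = (permC ac)⁻¹ := by
  rw [eq_inv_iff_mul_eq_one, ((IdxFun.permC aic_perm).mul ha_idx).eq_one_iff]
  exact aic_inv

theorem hai_idx : IdxFun (permC ac)⁻¹ (papp aic) := by
  rw [← aic_eq]; exact IdxFun.permC aic_perm


/-! ### generation by the standard generators -/

theorem gen_top (H : Subgroup ↥(Hfix 1)) (ha : aG ∈ H) (hb : bG ∈ H) : H = ⊤ := by
  let Pr : ℕ → Prop := fun S => isPerm S = true ∧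
    ∃ h : permC S ∈ Hfix 1, (⟨permC S, h⟩ : ↥(Hfix 1)) ∈ H
  have hmul : ∀ R S T, Pr S → Pr T → isPerm R = true → compOK R S T = true → Pr R := by
    intro R S T hS hT hR hc
    obtain ⟨hSP, hSK, hSH⟩ := hS
    obtain ⟨hTP, hTK, hTH⟩ := hT
    have hprod : permC R = permC S * permC T := by
      apply permC_mul_eq hR hSP hTP
      intro k hk
      exact Nat.eq_of_beq_eq_true (List.all_eq_true.1 hc k (List.mem_range.2 hk))
    have hRK : permC R ∈ Hfix 1 := by rw [hprod]; exact (Hfix 1).mul_mem hSK hTK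
    refine ⟨hR, hRK, ?_⟩
    have e : (⟨permC R, hRK⟩ : ↥(Hfix 1)) = ⟨permC S, hSK⟩ * ⟨permC T, hTK⟩ := Subtype.ext hprod
    rw [e]
    exact H.mul_mem hSH hTH
  have hbase : ∀ S ∈ [bc, ac], Pr S := by
    intro S hS
    rw [List.mem_cons, List.mem_singleton] at hS
    rcases hS with rfl | rfl
    · exact ⟨bc_perm, bc_mem.2, hb⟩
    · exact ⟨ac_perm, ac_mem.2, ha⟩
  have hU := Cfsg.Agent.Lib.Helper92.Slp.slpCheck_sound Pr hmul _ prog [bc, ac] 2 rfl hbase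
    slp_cover
  rw [eq_top_iff]
  intro g _
  obtain ⟨S1, hS1, hA1, h1⟩ := Cfsg.Agent.S5394.stepH 1 (by norm_num) V1 1 V1_ok V1_cov
    (by decide) g.2
  have h1' : (permC S1)⁻¹ * g.1 ∈ Hfix 3 := h1
  obtain ⟨S2, hS2, S3, hS3, S4, hS4, h, hh, hf⟩ := enumF h1'
  obtain ⟨hP1, hK1, hH1⟩ := hU S1 (by simp [hS1])
  obtain ⟨hP2, hK2, hH2⟩ := hU S2 (by simp [hS2])
  obtain ⟨hP3, hK3, hH3⟩ := hU S3 (by simp [hS3])
  obtain ⟨hP4, hK4, hH4⟩ := hU S4 (by simp [hS4])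
  obtain ⟨hPh, hKh, hHh⟩ := hU h (by simp [hh])
  have hg : g = (⟨permC S1, hK1⟩ : ↥(Hfix 1)) * ⟨permC S2, hK2⟩ * ⟨permC S3, hK3⟩ *
      ⟨permC S4, hK4⟩ * ⟨permC h, hKh⟩ := by
    apply Subtype.ext
    show g.1 = permC S1 * permC S2 * permC S3 * permC S4 * permC h
    have e : g.1 = permC S1 * ((permC S1)⁻¹ * g.1) := by group
    rw [e]
    have e2 : (permC S1)⁻¹ * g.1 = permC S2 * permC S3 * permC S4 * permC h := by
      apply Equiv.ext
      intro p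
      apply ptIdx_inj
      rw [hf]
      simp only [Equiv.Perm.mul_apply]
      rw [ptIdx_permC hP2, ptIdx_permC hP3, ptIdx_permC hP4, ptIdx_permC hPh]
    rw [e2]; group
  rw [hg]
  exact H.mul_mem (H.mul_mem (H.mul_mem (H.mul_mem hH1 hH2) hH3) hH4) hHh

/-! ### the four point stabiliser -/

theorem fset15_cases : ∀ p : GolayPt, p ∈ fset 15 → p = P 0 ∨ p = P 1 ∨ p = P 2 ∨ p = P 3 := by
  decide

theorem mem_K15 (g : Equiv.Perm GolayPt) :
    g ∈ Hfix 15 ↔ g ∈ M24 ∧ g (P 0) = P 0 ∧ g (P 1) = P 1 ∧ g (P 2) = P 2 ∧ g (P 3) = P 3 := by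
  rw [mem_Hfix]
  constructor
  · rintro ⟨h1, h2⟩
    exact ⟨h1, h2 _ ((mem_fset_P 15 0 (by decide)).2 (by decide)),
      h2 _ ((mem_fset_P 15 1 (by decide)).2 (by decide)),
      h2 _ ((mem_fset_P 15 2 (by decide)).2 (by decide)),
      h2 _ ((mem_fset_P 15 3 (by decide)).2 (by decide))⟩
  · rintro ⟨h1, h2, h3, h4, h5⟩
    refine ⟨h1, fun p hp => ?_⟩
    rcases fset15_cases p hp with rfl | rfl | rfl | rfl
    · exact h2
    · exact h3
    · exact h4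
    · exact h5

theorem enum15 {g : Equiv.Perm GolayPt} (hg : g ∈ Hfix 15) :
    ∃ S4 ∈ V4, ∃ h ∈ H5list, isPerm S4 = true ∧ isPerm h = true ∧ g = permC S4 * permC h := by
  obtain ⟨S4, hS4, hA4, h4⟩ := Cfsg.Agent.S5394.stepH 4 (by norm_num) V4 15 V4_ok V4_cov
    (by decide) hg
  have h4' : (permC S4)⁻¹ * g ∈ Hfix 31 := h4
  obtain ⟨h, hh, hgh⟩ := H5_complete h4'
  have hHok := List.all_eq_true.1 H5_ok h hh
  rw [Bool.and_eq_true] at hHok
  refine ⟨S4, hS4, h, hh, isPerm_of_isAutC hA4, isPerm_of_isAutC hHok.1, ?_⟩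
  rw [← hgh]; group

/-! ### transfer to the stabiliser of the extra point -/

theorem mem_M23 (g : Equiv.Perm GolayPt) :
    g ∈ Cfsg.Spor.M23 ↔ g ∈ M24 ∧ g (P 23) = P 23 := by
  unfold Cfsg.Spor.M23
  rw [Subgroup.mem_inf, MulAction.mem_stabilizer_iff, P23_eq]
  exact Iff.rfl

theorem mc_facts : permC mc ∈ M24 ∧ permC mc (P 0) = P 23 := by
  have h := mc_good
  simp only [Bool.and_eq_true] at h
  obtain ⟨hA, h0⟩ := h
  have hP := isPerm_of_isAutC hA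
  exact ⟨permC_mem_M24 hA, P_of_papp hP 0 (by decide) 23 (by decide) h0⟩

/-- the point stabiliser is isomorphic to the Mathieu group of degree 23 -/
def isoM23 : ↥(Hfix 1) ≃* ↥Cfsg.Spor.M23 where
  toFun g := ⟨permC mc * g.1 * (permC mc)⁻¹, by
    obtain ⟨hgM, hg0⟩ := (mem_K1 g.1).1 g.2
    obtain ⟨hmM, hm0⟩ := mc_facts
    rw [mem_M23]
    refine ⟨M24.mul_mem (M24.mul_mem hmM hgM) (M24.inv_mem hmM), ?_⟩
    simp only [Equiv.Perm.mul_apply]
    rw [inv_app hm0, hg0, hm0]⟩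
  invFun h := ⟨(permC mc)⁻¹ * h.1 * permC mc, by
    obtain ⟨hhM, hh0⟩ := (mem_M23 h.1).1 h.2
    obtain ⟨hmM, hm0⟩ := mc_facts
    rw [mem_K1]
    refine ⟨M24.mul_mem (M24.mul_mem (M24.inv_mem hmM) hhM) hmM, ?_⟩
    simp only [Equiv.Perm.mul_apply]
    rw [hm0, hh0, inv_app hm0]⟩
  left_inv := by
    intro g
    apply Subtype.ext
    show (permC mc)⁻¹ * (permC mc * g.1 * (permC mc)⁻¹) * permC mc = g.1
    group
  right_inv := by
    intro h
    apply Subtype.ext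
    show permC mc * ((permC mc)⁻¹ * h.1 * permC mc) * (permC mc)⁻¹ = h.1
    group
  map_mul' := by
    intro g h
    apply Subtype.ext
    show permC mc * (g.1 * h.1) * (permC mc)⁻¹ =
      (permC mc * g.1 * (permC mc)⁻¹) * (permC mc * h.1 * (permC mc)⁻¹)
    group

end Cfsg.Agent.Lib.Helper92.M23Tools
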