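import Cfsg.Agent.Lib.Helper65.RU.Defs

/-! # S2522 leaves L1 and L1' (helper92): regular unitriangular matrices are conjugate to `Jmat` -/

set_option autoImplicit false

namespace Cfsg.Agent.Lib.Helper65.RU

open Matrix

variable {K : Type*} [Field K]

/-- powers of a strictly upper triangular matrix vanish below the `k`-th superdiagonal -/
theorem l1_pow_zero {n : ℕ} (N : Matrix (Fin n) (Fin n) K)
    (hN : ∀ i j : Fin n, j ≤ i → N i j = 0) :
    ∀ k : ℕ, ∀ i j : Fin n, j.val < i.val + k → (N ^ k) i j = 0 := by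
  intro k
  induction k with
  | zero =>
    intro i j h
    have hne : i ≠ j := by
      intro e; subst e; omega
    simp [hne]
  | succ k ih =>
    intro i j h
    rw [pow_succ', Matrix.mul_apply]
    apply Finset.sum_eq_zero
    intro l _
    by_cases hl : l ≤ i
    · rw [hN i l hl, zero_mul]
    · have hl' : i.val < l.val := by
        have := not_le.mp hl
        exact this
      rw [ih l j (by omega), mul_zero]

/-- the `k`-th superdiagonal of the `k`-th power of a strictly upper triangular matrix with nonzero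
superdiagonal is nonzero -/
theorem l1_pow_ne_zero {n : ℕ} (N : Matrix (Fin n) (Fin n) K)
    (hN : ∀ i j : Fin n, j ≤ i → N i j = 0)
    (hN' : ∀ i j : Fin n, i.val + 1 = j.val → N i j ≠ 0) :
    ∀ k : ℕ, ∀ i j : Fin n, j.val = i.val + k → (N ^ k) i j ≠ 0 := by
  intro k
  induction k with
  | zero =>
    intro i j h
    have he : i = j := Fin.ext (by omega)
    simp [he]
  | succ k ih =>
    intro i j h
    rw [pow_succ', Matrix.mul_apply]
    have hi1 : i.val + 1 < n := by have := j.isLt; omega
    rw [Finset.sum_eq_single (⟨i.val + 1, hi1⟩ : Fin n)]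
    · exact mul_ne_zero (hN' i _ rfl) (ih _ j (by simp; omega))
    · intro l _ hl
      by_cases hli : l ≤ i
      · rw [hN i l hli, zero_mul]
      · have hl' : i.val < l.val := not_le.mp hli
        have hl2 : l.val ≠ i.val + 1 := fun e => hl (Fin.ext e)
        rw [l1_pow_zero N hN k l j (by omega), mul_zero]
    · intro h'; exact absurd (Finset.mem_univ _) h'

theorem l1_jmat_apply {n : ℕ} (i j : Fin n) :
    (Jmat n : Matrix (Fin n) (Fin n) K) i j =
      if i = j then 1 else if j.val = i.val + 1 then 1 else 0 := rfl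

theorem l1_jmat_sub_one_apply {n : ℕ} (i j : Fin n) :
    ((Jmat n : Matrix (Fin n) (Fin n) K) - 1) i j = if j.val = i.val + 1 then 1 else 0 := by
  rw [Matrix.sub_apply, l1_jmat_apply, Matrix.one_apply]
  by_cases h : i = j
  · subst h
    simp
  · simp [h]

/-- L1: a regular upper unitriangular matrix is conjugate to `Jmat`. -/
theorem conj_Jmat_of_isRegUpper {n : ℕ} (U : Matrix (Fin n) (Fin n) K) (hU : IsRegUpper U) :
    ∃ P : GL (Fin n) K, U = P.val * Jmat n * (P⁻¹ : GL (Fin n) K).val := by
  obtain ⟨hU1, hU2, hU3⟩ := hU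
  rcases n with _ | m
  · exact ⟨1, by ext i; exact i.elim0⟩
  set N : Matrix (Fin (m + 1)) (Fin (m + 1)) K := U - 1 with hNdef
  have hN : ∀ i j : Fin (m + 1), j ≤ i → N i j = 0 := by
    intro i j hji
    rcases lt_or_eq_of_le hji with h | h
    · have hne : i ≠ j := ne_of_gt h
      simp [hNdef, hne, hU1 i j h]
    · subst h
      simp [hNdef, hU2]
  have hN' : ∀ i j : Fin (m + 1), i.val + 1 = j.val → N i j ≠ 0 := by
    intro i j hij
    have hne : i ≠ j := by
      intro e; subst e; omega
    simpa [hNdef, Matrix.one_apply, hne] using hU3 i j hij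
  set P : Matrix (Fin (m + 1)) (Fin (m + 1)) K :=
    fun i j => (N ^ (m - j.val)) i (Fin.last m) with hPdef
  have hPtri : P.IsUpperTriangular := by
    intro i j hji
    have hji' : j.val < i.val := hji
    have := j.isLt
    exact l1_pow_zero N hN _ i (Fin.last m) (by simp; omega)
  have hPdiag : ∀ i, P i i ≠ 0 := by
    intro i
    have := i.isLt
    exact l1_pow_ne_zero N hN hN' _ i (Fin.last m) (by simp; omega)
  have hdet : P.det ≠ 0 := by
    rw [Matrix.det_of_isUpperTriangular hPtri]
    exact Finset.prod_ne_zero_iff.mpr fun i _ => hPdiag i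
  have hNP : N * P = P * (Jmat (m + 1) - 1) := by
    ext i j
    rw [Matrix.mul_apply, Matrix.mul_apply]
    have h1 : ∑ l, N i l * P l j = (N ^ (m - j.val + 1)) i (Fin.last m) := by
      rw [pow_succ', Matrix.mul_apply]
    rw [h1]
    simp only [l1_jmat_sub_one_apply]
    by_cases hj : j.val = 0
    · rw [Finset.sum_eq_zero]
      · exact l1_pow_zero N hN _ i (Fin.last m) (by simp; omega)
      · intro l _
        rw [if_neg (by omega), mul_zero]
    · have hj1 : j.val - 1 < m + 1 := by have := j.isLt; omega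
      rw [Finset.sum_eq_single (⟨j.val - 1, hj1⟩ : Fin (m + 1))]
      · have hc : j.val = j.val - 1 + 1 := by omega
        rw [if_pos (by simpa using hc), mul_one]
        have : m - j.val + 1 = m - (j.val - 1) := by have := j.isLt; omega
        simp only [hPdef, this]
      · intro l _ hl
        have : ¬ (j.val = l.val + 1) := by
          intro e
          exact hl (Fin.ext (by simp; omega))
        rw [if_neg this, mul_zero]
      · intro h'; exact absurd (Finset.mem_univ _) h'
  have hUP : U * P = P * Jmat (m + 1) := by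
    have h2 : U = N + 1 := by simp [hNdef]
    rw [h2, Matrix.add_mul, hNP, Matrix.mul_sub, Matrix.one_mul, Matrix.mul_one]
    abel
  refine ⟨Matrix.GeneralLinearGroup.mkOfDetNeZero P hdet, ?_⟩
  rw [Matrix.coe_units_inv]
  have hPv : (Matrix.GeneralLinearGroup.mkOfDetNeZero P hdet).val = P := rfl
  rw [hPv, ← hUP, Matrix.mul_assoc, Matrix.mul_nonsing_inv P (Ne.isUnit hdet), Matrix.mul_one]

/-- L1': a regular lower unitriangular matrix is conjugate to `Jmat`. -/
theorem conj_Jmat_of_isRegLower {n : ℕ} (L : Matrix (Fin n) (Fin n) K) (hL : IsRegLower L) :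
    ∃ P : GL (Fin n) K, L = P.val * Jmat n * (P⁻¹ : GL (Fin n) K).val := by
  obtain ⟨hL1, hL2, hL3⟩ := hL
  have hU : IsRegUpper (L.submatrix Fin.rev Fin.rev) := by
    refine ⟨?_, ?_, ?_⟩
    · intro i j hji
      exact hL1 _ _ (Fin.rev_lt_rev.mpr hji)
    · intro i
      exact hL2 _
    · intro i j hij
      apply hL3
      simp only [Fin.val_rev]
      have := j.isLt
      omega
  obtain ⟨P, hP⟩ := conj_Jmat_of_isRegUpper _ hU
  set Q : Matrix (Fin n) (Fin n) K := P.val.submatrix Fin.rev id with hQ
  set Q' : Matrix (Fin n) (Fin n) K := (P⁻¹ : GL (Fin n) K).val.submatrix id Fin.rev with hQ'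
  have hQQ' : Q * Q' = 1 := by
    ext i j
    have h1 : (P.val * (P⁻¹ : GL (Fin n) K).val) (Fin.rev i) (Fin.rev j) = (Q * Q') i j := by
      simp [Matrix.mul_apply, hQ, hQ']
    rw [← h1]
    have h2 : P.val * (P⁻¹ : GL (Fin n) K).val = 1 := by
      rw [← Units.val_mul, mul_inv_cancel, Units.val_one]
    rw [h2]
    simp [Matrix.one_apply, Fin.rev_inj]
  have hQ'Q : Q' * Q = 1 := mul_eq_one_comm.mp hQQ'
  refine ⟨⟨Q, Q', hQQ', hQ'Q⟩, ?_⟩
  show L = Q * Jmat n * Q'
  ext i j
  have h3 : L i j = (L.submatrix Fin.rev Fin.rev) (Fin.rev i) (Fin.rev j) := by simp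
  rw [h3, hP]
  simp [Matrix.mul_apply, hQ, hQ']

end Cfsg.Agent.Lib.Helper65.RU
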