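import Mathlib
import Cfsg.Prelude.Def_Solvable

set_option autoImplicit false

/-! A `2`-subgroup `D` whose normaliser centralises an element `t`, in the presence of a
`2`-subgroup `Q` normalised by the centraliser of `t` and not contained in `D`, is not the
largest normal `2`-subgroup of its normaliser. -/

namespace Cfsg.Agent.Lib.Helper92.RadNormal

open Cfsg

theorem mem_sup_decomp {G : Type*} [Group G] {D Q : Subgroup G}
    (h : ∀ d ∈ D, ∀ q ∈ Q, d * q * d⁻¹ ∈ Q) {g : G} (hg : g ∈ D ⊔ Q) :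
    ∃ d ∈ D, ∃ q ∈ Q, g = d * q := by
  have h' : ∀ d ∈ D, ∀ q ∈ Q, d⁻¹ * q * d ∈ Q := by
    intro d hd q hq
    have := h d⁻¹ (D.inv_mem hd) q hq
    rwa [inv_inv] at this
  rw [Subgroup.sup_eq_closure] at hg
  induction hg using Subgroup.closure_induction with
  | mem x hx =>
    rcases hx with hx | hx
    · exact ⟨x, hx, 1, Q.one_mem, (mul_one x).symm⟩
    · exact ⟨1, D.one_mem, x, hx, (one_mul x).symm⟩
  | one => exact ⟨1, D.one_mem, 1, Q.one_mem, (mul_one 1).symm⟩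
  | mul x y _ _ hx hy =>
    obtain ⟨d, hd, q, hq, rfl⟩ := hx
    obtain ⟨d', hd', q', hq', rfl⟩ := hy
    refine ⟨d * d', D.mul_mem hd hd', (d'⁻¹ * q * d') * q', Q.mul_mem (h' d' hd' q hq) hq', ?_⟩
    group
  | inv x _ hx =>
    obtain ⟨d, hd, q, hq, rfl⟩ := hx
    refine ⟨d⁻¹, D.inv_mem hd, d * q⁻¹ * d⁻¹, h d hd _ (Q.inv_mem hq), ?_⟩
    group

/-- the criterion -/
theorem pCore_normalizer_ne {G : Type*} [Group G] [Finite G] (D Q : Subgroup G) (t : G)
    (hD2 : IsPGroup 2 D) (hQ2 : IsPGroup 2 Q)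
    (hN : ∀ g ∈ Subgroup.normalizer (D : Set G), g * t = t * g)
    (hQ : ∀ g : G, g * t = t * g → ∀ q ∈ Q, g * q * g⁻¹ ∈ Q)
    (hQD : ¬ Q ≤ D) :
    (Cfsg.pCore 2 (Subgroup.normalizer (D : Set G))).map
      (Subgroup.normalizer (D : Set G)).subtype ≠ D := by
  have : Fact (Nat.Prime 2) := ⟨Nat.prime_two⟩
  intro hrad
  -- `D` normalises `Q`
  have hDQ : ∀ d ∈ D, ∀ q ∈ Q, d * q * d⁻¹ ∈ Q := fun d hd q hq =>
    hQ d (hN d (Subgroup.le_normalizer hd)) q hq
  have hDnQ : D ≤ Subgroup.normalizer (Q : Set G) := by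
    intro d hd
    rw [Subgroup.mem_normalizer_iff]
    intro q
    constructor
    · exact hDQ d hd q
    · intro hq
      have := hDQ d⁻¹ (D.inv_mem hd) _ hq
      rw [inv_inv] at this
      have e : d⁻¹ * (d * q * d⁻¹) * d = q := by group
      rwa [e] at this
  -- the `2`-group `P = D Q`
  have hP2 : IsPGroup 2 (D ⊔ Q : Subgroup G) := hD2.to_sup_of_normal_right' hQ2 hDnQ
  have hnil : Group.IsNilpotent (D ⊔ Q : Subgroup G) := hP2.isNilpotent
  have hlt : D.subgroupOf (D ⊔ Q) < ⊤ := by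
    rw [lt_top_iff_ne_top]
    intro htop
    apply hQD
    intro q hq
    have : (⟨q, (le_sup_right : Q ≤ D ⊔ Q) hq⟩ : (D ⊔ Q : Subgroup G)) ∈ D.subgroupOf (D ⊔ Q) := by
      rw [htop]
      exact Subgroup.mem_top _
    exact Subgroup.mem_subgroupOf.1 this
  have hnc := Group.normalizerCondition_of_isNilpotent (G := (D ⊔ Q : Subgroup G))
    (D.subgroupOf (D ⊔ Q)) hlt
  obtain ⟨g, hgN, hgD⟩ := SetLike.exists_of_lt hnc
  -- `g` normalises `D`
  have hgN' : (g : G) ∈ Subgroup.normalizer (D : Set G) := by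
    rw [Subgroup.mem_normalizer_iff] at hgN ⊢
    intro x
    constructor
    · intro hx
      have := (hgN ⟨x, (le_sup_left : D ≤ D ⊔ Q) hx⟩).1 (Subgroup.mem_subgroupOf.2 hx)
      exact Subgroup.mem_subgroupOf.1 this
    · intro hx
      have hx' : x ∈ D ⊔ Q := by
        have h1 : (g : G)⁻¹ * ((g : G) * x * (g : G)⁻¹) * (g : G) ∈ D ⊔ Q :=
          (D ⊔ Q).mul_mem ((D ⊔ Q).mul_mem ((D ⊔ Q).inv_mem g.2)
            ((le_sup_left : D ≤ D ⊔ Q) hx)) g.2
        have e : (g : G)⁻¹ * ((g : G) * x * (g : G)⁻¹) * (g : G) = x := by group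
        rwa [e] at h1
      have := (hgN ⟨x, hx'⟩).2 (Subgroup.mem_subgroupOf.2 hx)
      exact Subgroup.mem_subgroupOf.1 this
  have hgD' : (g : G) ∉ D := fun h => hgD (Subgroup.mem_subgroupOf.2 h)
  obtain ⟨d, hd, q, hq, hgdq⟩ := mem_sup_decomp hDQ g.2
  have hqN : q ∈ Subgroup.normalizer (D : Set G) := by
    have : q = d⁻¹ * (g : G) := by rw [hgdq]; group
    rw [this]
    exact (Subgroup.normalizer (D : Set G)).mul_mem
      ((Subgroup.normalizer (D : Set G)).inv_mem (Subgroup.le_normalizer hd)) hgN'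
  have hqD : q ∉ D := by
    intro h
    apply hgD'
    rw [hgdq]
    exact D.mul_mem hd h
  -- the normal `2`-subgroup `Q ∩ N(D)` of `N(D)`
  have hnorm : (Q.subgroupOf (Subgroup.normalizer (D : Set G))).Normal := by
    constructor
    intro ρ hρ n
    rw [Subgroup.mem_subgroupOf] at hρ ⊢
    push_cast
    exact hQ n (hN n n.2) ρ hρ
  have hp : IsPGroup 2 (Q.subgroupOf (Subgroup.normalizer (D : Set G))) := hQ2.comap_subtype
  have hle : Q.subgroupOf (Subgroup.normalizer (D : Set G)) ≤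
      Cfsg.pCore 2 (Subgroup.normalizer (D : Set G)) := le_sSup ⟨hnorm, hp⟩
  apply hqD
  rw [← hrad]
  exact ⟨⟨q, hqN⟩, hle (Subgroup.mem_subgroupOf.2 hq), rfl⟩

/-- the basic criterion: a `2`-subgroup normalised by `N(D)` containing an element of `N(D)` outside
`D` -/
theorem pCore_normalizer_ne_of_mem {G : Type*} [Group G] (D Q : Subgroup G)
    (hQ2 : IsPGroup 2 Q)
    (hNQ : ∀ g ∈ Subgroup.normalizer (D : Set G), ∀ q ∈ Q, g * q * g⁻¹ ∈ Q)
    (q : G) (hq : q ∈ Q) (hqN : q ∈ Subgroup.normalizer (D : Set G)) (hqD : q ∉ D) :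
    (Cfsg.pCore 2 (Subgroup.normalizer (D : Set G))).map
      (Subgroup.normalizer (D : Set G)).subtype ≠ D := by
  intro hrad
  have hnorm : (Q.subgroupOf (Subgroup.normalizer (D : Set G))).Normal := by
    constructor
    intro ρ hρ n
    rw [Subgroup.mem_subgroupOf] at hρ ⊢
    push_cast
    exact hNQ n n.2 ρ hρ
  have hp : IsPGroup 2 (Q.subgroupOf (Subgroup.normalizer (D : Set G))) := hQ2.comap_subtype
  have hle : Q.subgroupOf (Subgroup.normalizer (D : Set G)) ≤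
      Cfsg.pCore 2 (Subgroup.normalizer (D : Set G)) := le_sSup ⟨hnorm, hp⟩
  apply hqD
  rw [← hrad]
  exact ⟨⟨q, hqN⟩, hle (Subgroup.mem_subgroupOf.2 hq), rfl⟩

end Cfsg.Agent.Lib.Helper92.RadNormal
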