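import Cfsg.Agent.S2060

set_option autoImplicit false
open Cfsg

namespace Cfsg.Agent.Lib.Helper92.Slp

open Cfsg.Agent.Lib.Helper93.Golay
open Cfsg.Agent.S2060 (compOK)

/-- run a straight-line program of products of codes (newest first in `known`, absolute indices)
and check at the end that all targets have been produced -/
def slpCheck : List ℕ → ℕ → List (ℕ × ℕ × ℕ) → List ℕ → Bool
  | known, _, [], targets => targets.all fun S => known.any fun T => Nat.beq T S
  | known, n, (R, i, j) :: rest, targets =>
    isPerm R && compOK R (known.getD (n - 1 - i) 0) (known.getD (n - 1 - j) 0) && Nat.blt i n &&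
      Nat.blt j n && slpCheck (R :: known) (n + 1) rest targets

theorem slpCheck_sound (Pr : ℕ → Prop)
    (hmul : ∀ R S T, Pr S → Pr T → isPerm R = true → compOK R S T = true → Pr R)
    (targets : List ℕ) :
    ∀ (pr : List (ℕ × ℕ × ℕ)) (known : List ℕ) (n : ℕ), n = known.length →
      (∀ S ∈ known, Pr S) → slpCheck known n pr targets = true → ∀ S ∈ targets, Pr S := by
  intro pr
  induction pr with
  | nil =>
    intro known n _ h hc S hS
    unfold slpCheck at hc
    have := List.all_eq_true.1 hc S hS
    rw [List.any_eq_true] at this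
    obtain ⟨T, hT, hTS⟩ := this
    rw [← Nat.eq_of_beq_eq_true hTS]
    exact h T hT
  | cons e rest ih =>
    obtain ⟨R, i, j⟩ := e
    intro known n hn h hc
    unfold slpCheck at hc
    simp only [Bool.and_eq_true] at hc
    obtain ⟨⟨⟨⟨hP, hcomp⟩, hi⟩, hj⟩, hrest⟩ := hc
    have hi' : i < n := Nat.le_of_ble_eq_true hi
    have hj' : j < n := Nat.le_of_ble_eq_true hj
    apply ih (R :: known) (n + 1) (by rw [List.length_cons, hn]) _ hrest
    intro T hT
    rw [List.mem_cons] at hT
    rcases hT with rfl | hT
    · refine hmul _ _ _ (h _ ?_) (h _ ?_) hP hcomp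
      · rw [List.getD_eq_getElem _ _ (by omega)]; exact List.getElem_mem _
      · rw [List.getD_eq_getElem _ _ (by omega)]; exact List.getElem_mem _
    · exact h T hT

end Cfsg.Agent.Lib.Helper92.Slp
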