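import Mathlib

/-! # S0347 leaves NT1, NT2 (helper92): Vieta jumping and the two tori of a Suzuki group -/

set_option autoImplicit false

namespace Cfsg.Agent.Lib.Helper3.Sz

/-- Vieta jumping: positive solutions of `(x-2)^2 + (y-2)^2 = L x y` force `L = 2`. -/
theorem nt1_aux : ∀ n : ℕ, ∀ x y L : ℤ, 0 < x → 0 < y → 0 < L → x + y ≤ n →
    (x - 2) ^ 2 + (y - 2) ^ 2 = L * x * y → L = 2 := by
  intro n
  induction n with
  | zero =>
    intro x y L hx hy _ hs _
    have : (0 : ℤ) < x + y := by linarith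
    simp at hs
    linarith
  | succ n ih =>
    intro x y L hx hy hL hs h
    wlog hxy : y ≤ x generalizing x y
    · exact this y x hy hx (by linarith) (by linarith) (by linarith)
    have hcases : y = 1 ∨ y = 2 ∨ 3 ≤ y := by omega
    rcases hcases with h1 | h2 | h3
    · subst h1
      have hdvd : x ∣ 5 := Dvd.intro (L + 4 - x) (by linear_combination (-1 : ℤ) * h)
      have hle : x ≤ 5 := Int.le_of_dvd (by norm_num) hdvd
      interval_cases x <;> norm_num at h <;> omega
    · subst h2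
      have hdvd : x ∣ 4 := Dvd.intro (2 * L + 4 - x) (by linear_combination (-1 : ℤ) * h)
      have hle : x ≤ 4 := Int.le_of_dvd (by norm_num) hdvd
      interval_cases x <;> norm_num at h <;> omega
    · have hprod : x * (L * y + 4 - x) = (y - 2) ^ 2 + 4 := by
        linear_combination (-1 : ℤ) * h
      have hx'pos : 0 < L * y + 4 - x := by
        by_contra hcon
        have h' : L * y + 4 - x ≤ 0 := not_lt.mp hcon
        have : x * (L * y + 4 - x) ≤ 0 := mul_nonpos_of_nonneg_of_nonpos hx.le h'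
        have := sq_nonneg (y - 2)
        linarith
      have hx'lt : L * y + 4 - x < y := by
        by_contra hcon
        have h' : y ≤ L * y + 4 - x := not_lt.mp hcon
        have h4 : y * y ≤ x * (L * y + 4 - x) := mul_le_mul hxy h' hy.le hx.le
        have h5 : (y - 2) ^ 2 + 4 = y * y - 4 * y + 8 := by ring
        linarith
      have hnew : (y - 2) ^ 2 + ((L * y + 4 - x) - 2) ^ 2 = L * y * (L * y + 4 - x) := by
        linear_combination h
      push_cast at hs
      exact ih y (L * y + 4 - x) L hy hx'pos hL (by linarith) hnew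

/-- S0347-NT1 (Vieta jumping). -/
theorem vieta_sq {a b q : ℕ} (ha : 1 ≤ a) (hb : 1 ≤ b) (hab : a + b = 2 * q + 2)
    (hdvd : a * b ∣ q ^ 2 + 1) : a * b = q ^ 2 + 1 := by
  obtain ⟨c, hc⟩ := hdvd
  have hc1 : 1 ≤ c := by
    rcases Nat.eq_zero_or_pos c with h0 | hpos
    · subst h0
      simp at hc
    · exact hpos
  have habZ : (a : ℤ) + b = 2 * q + 2 := by exact_mod_cast hab
  have hcZ : (q : ℤ) ^ 2 + 1 = a * b * c := by exact_mod_cast hc
  have hL : (4 * (c : ℤ) - 2) = 2 := by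
    apply nt1_aux (a + b) (a : ℤ) (b : ℤ) (4 * (c : ℤ) - 2)
    · exact_mod_cast ha
    · exact_mod_cast hb
    · have : (1 : ℤ) ≤ c := by exact_mod_cast hc1
      linarith
    · push_cast
      exact le_refl _
    · have h1 : (b : ℤ) = 2 * q + 2 - a := by linarith
      have h2 : ((a : ℤ) - 2) ^ 2 + ((b : ℤ) - 2) ^ 2 = ((a : ℤ) + b) ^ 2 - 4 * ((a : ℤ) + b) + 8
          - 2 * (a * b) := by ring
      rw [h2, habZ]
      linear_combination 4 * hcZ
  have hc' : c = 1 := by
    have : (c : ℤ) = 1 := by linarith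
    exact_mod_cast this
  rw [hc, hc', mul_one]

theorem nt2_sq_two_pow {n j : ℕ} (h : n ^ 2 = 2 ^ j) : ∃ v, j = 2 * v := by
  refine ⟨padicValNat 2 n, ?_⟩
  have h1 : padicValNat 2 (n ^ 2) = 2 * padicValNat 2 n := padicValNat.pow n 2
  have h2 : padicValNat 2 (2 ^ j) = j := padicValNat.prime_pow j
  rw [← h2, ← h, h1]

/-- S0347-NT2 (uses NT1). -/
theorem odd_pow_of_two_tori {q a b k : ℕ} (hk : 1 ≤ k) (hq : q = 2 ^ k) (ha : 2 ≤ a) (hb : 2 ≤ b)
    (hab : a + b = 2 * q + 2) (hda : a ∣ q ^ 2 + 1) (hdb : b ∣ q ^ 2 + 1) :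
    ∃ m : ℕ, k = 2 * m + 1 := by
  have hq2 : 2 ∣ q := by
    rw [hq]
    exact dvd_pow_self 2 (by omega)
  have hodd : ¬ 2 ∣ q ^ 2 + 1 := by
    intro h
    have h1 : 2 ∣ q ^ 2 := dvd_pow hq2 (by norm_num)
    have := (Nat.dvd_add_right h1).mp h
    omega
  have hcop : Nat.Coprime a b := by
    rw [Nat.coprime_iff_gcd_eq_one]
    by_contra hg
    obtain ⟨p, hp, hpg⟩ := Nat.exists_prime_and_dvd hg
    have hpa : p ∣ a := hpg.trans (Nat.gcd_dvd_left a b)
    have hpb : p ∣ b := hpg.trans (Nat.gcd_dvd_right a b)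
    have hpq : p ∣ q ^ 2 + 1 := hpa.trans hda
    have hp2 : p ≠ 2 := by
      intro e
      subst e
      exact hodd hpq
    have hpab : p ∣ 2 * (q + 1) := by
      have : p ∣ a + b := dvd_add hpa hpb
      rw [hab] at this
      have e : 2 * q + 2 = 2 * (q + 1) := by ring
      rwa [e] at this
    have hpq1 : p ∣ q + 1 := by
      rcases (Nat.Prime.dvd_mul hp).mp hpab with h | h
      · exact absurd ((Nat.prime_dvd_prime_iff_eq hp Nat.prime_two).mp h) hp2
      · exact h
    have h3 : p ∣ (q ^ 2 + 1) + (q + 1) := dvd_add hpq hpq1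
    have e : (q ^ 2 + 1) + (q + 1) = (q + 1) * q + 2 := by ring
    rw [e] at h3
    have h4 : p ∣ 2 := (Nat.dvd_add_right (hpq1.mul_right q)).mp h3
    exact hp2 ((Nat.prime_dvd_prime_iff_eq hp Nat.prime_two).mp h4)
  have hmul : a * b ∣ q ^ 2 + 1 := Nat.Coprime.mul_dvd_of_dvd_of_dvd hcop hda hdb
  have hab2 : a * b = q ^ 2 + 1 := vieta_sq (by omega) (by omega) hab hmul
  have hZ : ((b : ℤ) - a) ^ 2 = 2 ^ (k + 3) := by
    have h1 : (a : ℤ) + b = 2 * q + 2 := by exact_mod_cast hab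
    have h2 : (a : ℤ) * b = q ^ 2 + 1 := by exact_mod_cast hab2
    have h3 : (q : ℤ) = 2 ^ k := by exact_mod_cast hq
    have h4 : ((b : ℤ) - a) ^ 2 = ((a : ℤ) + b) ^ 2 - 4 * (a * b) := by ring
    rw [h4, h1, h2, pow_add, ← h3]
    ring
  have hN : (((b : ℤ) - a).natAbs) ^ 2 = 2 ^ (k + 3) := by
    have := congrArg Int.natAbs hZ
    rw [Int.natAbs_pow, Int.natAbs_pow] at this
    simpa using this
  obtain ⟨v, hv⟩ := nt2_sq_two_pow hN
  exact ⟨v - 2, by omega⟩

end Cfsg.Agent.Lib.Helper3.Sz
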